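import Mathlib

set_option autoImplicit false

namespace Cfsg.Agent.Lib.Helper76

variable {G : Type*} [Group G]

theorem card_mul_relIndex' {H K : Subgroup G} (h : H ≤ K) :
    Nat.card H * H.relIndex K = Nat.card K := by
  have := Subgroup.relIndex_mul_relIndex ⊥ H K bot_le h
  rwa [Subgroup.relIndex_bot_left, Subgroup.relIndex_bot_left] at this

/-- `|HN : H| = |N : H ∩ N|` for `N` normal. -/
theorem relIndex_sup_normal [Finite G] (H N : Subgroup G) [N.Normal] :
    H.relIndex (H ⊔ N) = H.relIndex N := by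
  have h1 : N.relIndex (H ⊔ N) = N.relIndex H := Subgroup.relIndex_sup_right H N
  have e1 := card_mul_relIndex' (le_sup_right : N ≤ H ⊔ N)
  have e2 := card_mul_relIndex' (le_sup_left : H ≤ H ⊔ N)
  have e3 := card_mul_relIndex' (inf_le_left : H ⊓ N ≤ H)
  have e4 := card_mul_relIndex' (inf_le_right : H ⊓ N ≤ N)
  rw [Subgroup.inf_relIndex_left] at e3
  rw [Subgroup.inf_relIndex_right] at e4
  rw [h1] at e1
  have hpos : 0 < Nat.card (H ⊓ N : Subgroup G) * N.relIndex H := by
    rw [e3]; exact Nat.card_pos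
  apply Nat.eq_of_mul_eq_mul_left hpos
  calc Nat.card (H ⊓ N : Subgroup G) * N.relIndex H * H.relIndex (H ⊔ N)
      = Nat.card (H ⊔ N : Subgroup G) := by rw [e3, e2]
    _ = Nat.card (H ⊓ N : Subgroup G) * H.relIndex N * N.relIndex H := by rw [e4, e1]
    _ = Nat.card (H ⊓ N : Subgroup G) * N.relIndex H * H.relIndex N := by ring

variable [Finite G] (p : ℕ) [Fact p.Prime]

/-- number of Sylow subgroups of a subgroup `X`, in terms of a relative Sylow subgroup `R`. -/
theorem card_sylow_subgroup {R X : Subgroup G} (hRX : R ≤ X) (hR : IsPGroup p R)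
    (hidx : ¬ p ∣ R.relIndex X) :
    Nat.card (Sylow p X) = (Subgroup.normalizer (R : Set G)).relIndex X := by
  have hR' : IsPGroup p (R.subgroupOf X) := hR.comap_subtype
  rw [Sylow.card_eq_index_normalizer (hR'.toSylow hidx)]
  have : (((hR'.toSylow hidx : Sylow p X) : Set X)) = ((R.subgroupOf X : Subgroup X) : Set X) := rfl
  rw [this, ← Subgroup.subgroupOf_normalizer_eq hRX]
  rfl

theorem card_sylow_subgroup' (P : Sylow p G) {X : Subgroup G} (hPX : (P : Subgroup G) ≤ X) :
    Nat.card (Sylow p X) = (Subgroup.normalizer (P : Set G)).relIndex X := by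
  apply card_sylow_subgroup p hPX P.isPGroup'
  intro h
  exact P.not_dvd_index (h.trans (Subgroup.relIndex_dvd_index_of_le hPX))

/-- number of Sylow subgroups of a quotient. -/
theorem card_sylow_quotient (P : Sylow p G) (K : Subgroup G) [K.Normal] :
    Nat.card (Sylow p (G ⧸ K)) =
      (Subgroup.normalizer (((P : Subgroup G) ⊔ K : Subgroup G) : Set G)).index := by
  rw [Sylow.card_eq_index_normalizer (P.mapSurjective (QuotientGroup.mk'_surjective K))]
  have h1 : (((P.mapSurjective (QuotientGroup.mk'_surjective K) : Sylow p (G ⧸ K)) : Set (G ⧸ K))) =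
      (((P : Subgroup G).map (QuotientGroup.mk' K) : Subgroup (G ⧸ K)) : Set (G ⧸ K)) := rfl
  rw [h1, ← Subgroup.index_comap_of_surjective _ (QuotientGroup.mk'_surjective K),
    Subgroup.comap_normalizer_eq_of_surjective _ (QuotientGroup.mk'_surjective K),
    Subgroup.comap_map_eq, QuotientGroup.ker_mk']

/-- M. Hall: `n_p(G) = n_p(G/K) * n_p(PK)`. -/
theorem card_sylow_eq_quotient_mul (P : Sylow p G) (K : Subgroup G) [K.Normal] :
    Nat.card (Sylow p G) =
      Nat.card (Sylow p (G ⧸ K)) * Nat.card (Sylow p ((P : Subgroup G) ⊔ K : Subgroup G)) := by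
  set L : Subgroup G := (P : Subgroup G) ⊔ K with hL
  set B : Subgroup G := Subgroup.normalizer (L : Set G) with hB
  set A : Subgroup G := Subgroup.normalizer (P : Set G) with hA
  have hPL : (P : Subgroup G) ≤ L := le_sup_left
  have hLB : L ≤ B := Subgroup.le_normalizer
  have hAB : A ≤ B := by
    have := Subgroup.normalizer_le_normalizer_sup_normal (H := (P : Subgroup G)) (K := K)
    exact this
  rw [card_sylow_quotient p P K, card_sylow_subgroup' p P hPL, Sylow.card_eq_index_normalizer P,
    ← Subgroup.relIndex_mul_index hAB, mul_comm]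
  congr 1
  have hLn : (L.subgroupOf B).Normal := (Subgroup.normal_subgroupOf_iff_le_normalizer hLB).2 le_rfl
  have hPB : (P : Subgroup G) ≤ B := hPL.trans hLB
  have hle : ((P.subtype hPB : Sylow p B) : Subgroup B) ≤ L.subgroupOf B := by
    rw [Sylow.coe_subtype]
    exact Subgroup.subgroupOf_mono B hPL
  have hfr := Sylow.normalizer_sup_eq_top' (P.subtype hPB) hle
  have hnorm : Subgroup.normalizer ((P.subtype hPB : Sylow p B) : Set B) = A.subgroupOf B := by
    have h1 : ((P.subtype hPB : Sylow p B) : Set B) = (((P : Subgroup G).subgroupOf B : Subgroup B) : Set B) := rfl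
    rw [h1, ← Subgroup.subgroupOf_normalizer_eq hPB]
    rfl
  have h2 := relIndex_sup_normal (A.subgroupOf B) (L.subgroupOf B)
  rw [← hnorm, hfr, Subgroup.relIndex_top_right, hnorm, Subgroup.relIndex_subgroupOf hLB] at h2
  exact h2

/-- factoring out a normal `p`-subgroup does not change the number of Sylow `p`-subgroups. -/
theorem card_sylow_quotient_pgroup (R : Subgroup G) [R.Normal] (hR : IsPGroup p R) :
    Nat.card (Sylow p (G ⧸ R)) = Nat.card (Sylow p G) := by
  obtain ⟨Q⟩ : Nonempty (Sylow p G) := inferInstance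
  rw [card_sylow_quotient p Q R, sup_eq_left.2 (hR.le_sylow_of_normal Q),
    Sylow.card_eq_index_normalizer Q]
  rfl

theorem sylow_le_of_normal_of_not_dvd_index (H : Subgroup G) [H.Normal] (hH : ¬ p ∣ H.index)
    (P : Sylow p G) : (P : Subgroup G) ≤ H := by
  have hp : p.Prime := Fact.out
  rw [← Subgroup.relIndex_eq_one]
  obtain ⟨n, hn⟩ := IsPGroup.iff_card.1 P.isPGroup'
  have h1 : H.relIndex P ∣ p ^ n := hn ▸ Subgroup.relIndex_dvd_card _ _
  obtain ⟨k, -, hk⟩ := (Nat.dvd_prime_pow hp).1 h1
  have h2 : H.relIndex P ∣ H.index := Subgroup.relIndex_dvd_index_of_normal _ _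
  rcases Nat.eq_zero_or_pos k with rfl | hk0
  · simpa using hk
  · exfalso
    apply hH
    refine dvd_trans ?_ h2
    rw [hk]
    exact dvd_pow_self p hk0.ne'

theorem card_sylow_of_normal_of_not_dvd_index (H : Subgroup G) [H.Normal] (hH : ¬ p ∣ H.index) :
    Nat.card (Sylow p H) = Nat.card (Sylow p G) := by
  obtain ⟨P⟩ : Nonempty (Sylow p G) := inferInstance
  have hPH := sylow_le_of_normal_of_not_dvd_index p H hH P
  rw [card_sylow_subgroup' p P hPH, ← relIndex_sup_normal, Sylow.normalizer_sup_eq_top' P hPH,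
    Subgroup.relIndex_top_right, Sylow.card_eq_index_normalizer P]

theorem card_sylow_quotient_central (Z : Subgroup G) [Z.Normal] (hZ : Z ≤ Subgroup.center G) :
    Nat.card (Sylow p (G ⧸ Z)) = Nat.card (Sylow p G) := by
  obtain ⟨Q⟩ : Nonempty (Sylow p G) := inferInstance
  rw [card_sylow_quotient p Q Z, Sylow.card_eq_index_normalizer Q]
  congr 1
  apply le_antisymm
  · intro g hg
    rw [← Sylow.smul_eq_iff_mem_normalizer]
    have hT : (Q : Subgroup G) ⊔ Z ≤ Subgroup.normalizer (Q : Set G) := by
      apply sup_le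
      · exact Subgroup.le_normalizer
      · intro z hz
        have hzc := hZ hz
        rw [← Q.coe_coe, Subgroup.mem_normalizer_iff]
        intro h
        have : z * h * z⁻¹ = h := by
          rw [← Subgroup.mem_center_iff.1 hzc h]; group
        rw [this]
    have h1 : ((g • Q : Sylow p G) : Subgroup G) ≤ (Q : Subgroup G) ⊔ Z := by
      intro y hy
      rw [Sylow.coe_subgroup_smul, Subgroup.mem_pointwise_smul_iff_inv_smul_mem] at hy
      have h2 : (MulAut.conj g)⁻¹ • y ∈ (Q : Subgroup G) ⊔ Z := le_sup_left (a := (Q : Subgroup G)) hy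
      have h3 := (Subgroup.mem_normalizer_iff.1 hg _).1 h2
      simpa [MulAut.smul_def, mul_assoc] using h3
    have h4 := (g • Q).isPGroup'.inf_normalizer_sylow Q
    rw [inf_eq_left.2 (h1.trans hT)] at h4
    have h5 : ((g • Q : Sylow p G) : Subgroup G) ≤ Q := by
      rw [h4]; exact inf_le_right
    exact Sylow.ext ((g • Q).is_maximal' Q.isPGroup' h5).symm
  · exact Subgroup.normalizer_le_normalizer_sup_normal (H := (Q : Subgroup G)) (K := Z)

theorem not_dvd_relIndex_inf_normal (P : Sylow p G) (K : Subgroup G) [K.Normal] :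
    ¬ p ∣ ((P : Subgroup G) ⊓ K).relIndex K := by
  rw [Subgroup.inf_relIndex_right, ← relIndex_sup_normal]
  intro h
  exact P.not_dvd_index (h.trans (Subgroup.relIndex_dvd_index_of_le le_sup_left))

theorem normalizer_inf_sup_eq_top (P : Sylow p G) (K : Subgroup G) [K.Normal] :
    Subgroup.normalizer (((P : Subgroup G) ⊓ K : Subgroup G) : Set G) ⊔ K = ⊤ := by
  have hpg : IsPGroup p (((P : Subgroup G) ⊓ K).subgroupOf K) :=
    (P.isPGroup'.to_le inf_le_left).comap_subtype
  have h := Sylow.normalizer_sup_eq_top (hpg.toSylow (not_dvd_relIndex_inf_normal p P K))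
  have h1 : ((hpg.toSylow (not_dvd_relIndex_inf_normal p P K) : Sylow p K) : Subgroup K).map K.subtype
      = (P : Subgroup G) ⊓ K := by
    change (((P : Subgroup G) ⊓ K).subgroupOf K).map K.subtype = _
    rw [Subgroup.subgroupOf_map_subtype, inf_assoc, inf_idem]
  rwa [h1] at h

end Cfsg.Agent.Lib.Helper76
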