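import Mathlib
import Cfsg.Agent.Lib.Helper38.ZassA3

set_option autoImplicit false

/-! Rung I of helper61's Zassenhaus ladder: `Q_of_intertwine`, `QP`, `QT`. -/

namespace Cfsg.Agent.Lib.Helper76.Zass

open Cfsg.Agent.Lib.Helper38.Zass

/-- the entries of a matrix commuting with a non-scalar `2 × 2` matrix -/
theorem exists_coeff_of_commute {K : Type*} [Field K] (T X : Matrix (Fin 2) (Fin 2) K)
    (hT : T 0 1 ≠ 0 ∨ T 1 0 ≠ 0 ∨ T 0 0 - T 1 1 ≠ 0) (hX : T * X = X * T) :
    ∃ α : K, X 0 1 = α * T 0 1 ∧ X 1 0 = α * T 1 0 ∧ X 0 0 = X 1 1 + α * (T 0 0 - T 1 1) := by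
  have ex := fun i j => congrFun (congrFun hX i) j
  simp only [Matrix.mul_apply, Fin.sum_univ_two] at ex
  have x00 := ex 0 0
  have x01 := ex 0 1
  have x10 := ex 1 0
  rcases hT with h | h | h
  · refine ⟨X 0 1 / T 0 1, ?_, ?_, ?_⟩
    · field_simp
    · field_simp
      linear_combination x00
    · field_simp
      linear_combination -x01
  · refine ⟨X 1 0 / T 1 0, ?_, ?_, ?_⟩
    · field_simp
      linear_combination -x00
    · field_simp
    · field_simp
      linear_combination x10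
  · refine ⟨(X 0 0 - X 1 1) / (T 0 0 - T 1 1), ?_, ?_, ?_⟩
    · field_simp
      linear_combination x01
    · field_simp
      linear_combination -x10
    · field_simp
      ring

/-- two `2 × 2` matrices commuting with a non-scalar one commute -/
theorem commute_of_commute_nonscalar {K : Type*} [Field K] (T X Y : Matrix (Fin 2) (Fin 2) K)
    (hT : T 0 1 ≠ 0 ∨ T 1 0 ≠ 0 ∨ T 0 0 - T 1 1 ≠ 0) (hX : T * X = X * T) (hY : T * Y = Y * T) :
    X * Y = Y * X := by
  obtain ⟨α, a1, a2, a3⟩ := exists_coeff_of_commute T X hT hX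
  obtain ⟨β, b1, b2, b3⟩ := exists_coeff_of_commute T Y hT hY
  ext i j
  fin_cases i <;> fin_cases j <;>
    simp only [Matrix.mul_apply, Fin.sum_univ_two, Fin.zero_eta, Fin.mk_one, Fin.isValue] <;>
    simp only [a1, a2, a3, b1, b2, b3] <;> ring

theorem add_adjugate_fin_two {K : Type*} [CommRing K] (M : Matrix (Fin 2) (Fin 2) K) :
    M + M.adjugate = M.trace • (1 : Matrix (Fin 2) (Fin 2) K) := by
  rw [Matrix.adjugate_fin_two, Matrix.trace_fin_two]
  ext i j
  fin_cases i <;> fin_cases j <;> simp [add_comm]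

section

variable {K V H : Type*} [Field K] [AddCommGroup V] [Module K V] [Nontrivial V] [Group H]
  (ρ : H →* Module.End K V) (hfree : ∀ g : H, g ≠ 1 → ∀ v : V, ρ g v = v → v = 0)

include hfree

theorem rho_eq_neg_one_of_orderOf_two {g : H} (hg : orderOf g = 2) : ρ g = -1 := by
  have hg1 : g ≠ 1 := by
    rintro rfl
    simp at hg
  have hgg : g * g = 1 := by rw [← pow_two, ← hg, pow_orderOf_eq_one]
  rcases sq_eq_one_cases ρ hfree hgg with h | h
  · exact absurd h hg1
  · exact h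

theorem two_ne_zero_of_orderOf_two {g : H} (hg : orderOf g = 2) : (2 : K) ≠ 0 := by
  intro h2
  have hg1 : g ≠ 1 := by
    rintro rfl
    simp at hg
  have h := rho_eq_neg_one_of_orderOf_two ρ hfree hg
  obtain ⟨v, hv⟩ := exists_ne (0 : V)
  apply hv
  apply hfree g hg1 v
  rw [h]
  simp only [LinearMap.neg_apply, Module.End.one_apply]
  have h3 : (2 : K) • v = 0 := by rw [h2, zero_smul]
  rw [two_smul] at h3
  exact neg_eq_of_add_eq_zero_left h3

theorem Q_of_intertwine [Finite H] (S : Set H) (hS : ∀ s ∈ S, orderOf s = 3)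
    (Φ : (Fin 2 → K) →ₗ[K] V) (hΦ : Function.Injective Φ)
    (hM : ∀ s ∈ S, ∃ M : Matrix (Fin 2) (Fin 2) K, M.det = 1 ∧ ∀ c, ρ s (Φ c) = Φ (M.mulVec c))
    (hna : ∃ a ∈ S, ∃ b ∈ S, a * b ≠ b * a) :
    (Nat.card (Subgroup.closure S) = 24 ∨ Nat.card (Subgroup.closure S) = 120) ∧
      ∀ g ∈ Subgroup.closure S, g ^ 4 = 1 ∨ g ^ 6 = 1 ∨ g ^ 10 = 1 := by
  classical
  have hall : ∀ g ∈ Subgroup.closure S, ∃ M : Matrix (Fin 2) (Fin 2) K, M.det = 1 ∧
      ∀ c, ρ g (Φ c) = Φ (M.mulVec c) := by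
    intro g hg
    induction hg using Subgroup.closure_induction with
    | mem x hx => exact hM x hx
    | one => exact ⟨1, by simp, fun c => by simp⟩
    | mul x y _ _ hx hy =>
      obtain ⟨M, hM1, hM2⟩ := hx
      obtain ⟨N, hN1, hN2⟩ := hy
      refine ⟨M * N, by rw [Matrix.det_mul, hM1, hN1, one_mul], fun c => ?_⟩
      rw [map_mul, Module.End.mul_apply, hN2, hM2, Matrix.mulVec_mulVec]
    | inv x _ hx =>
      obtain ⟨M, hM1, hM2⟩ := hx
      refine ⟨M.adjugate, by rw [Matrix.det_adjugate, hM1]; simp, fun c => ?_⟩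
      have h1 : M * M.adjugate = 1 := by rw [Matrix.mul_adjugate, hM1, one_smul]
      have h2 : ρ x (Φ (M.adjugate.mulVec c)) = Φ c := by
        rw [hM2, Matrix.mulVec_mulVec, h1, Matrix.one_mulVec]
      rw [← h2, ← Module.End.mul_apply, rho_inv_mul, Module.End.one_apply]
  set G := Subgroup.closure S with hG
  choose Mf hdet hMf using fun g : G => hall g.1 g.2
  have huniq : ∀ (g : G) (M : Matrix (Fin 2) (Fin 2) K),
      (∀ c, ρ g.1 (Φ c) = Φ (M.mulVec c)) → Mf g = M := by
    intro g M h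
    apply Matrix.toLin'.injective
    refine LinearMap.ext fun c => ?_
    rw [Matrix.toLin'_apply, Matrix.toLin'_apply]
    apply hΦ
    rw [← hMf, h]
  have hmul : ∀ g h : G, Mf (g * h) = Mf g * Mf h := by
    intro g h
    apply huniq
    intro c
    rw [Subgroup.coe_mul, map_mul, Module.End.mul_apply, hMf, hMf, Matrix.mulVec_mulVec]
  have hone : Mf 1 = 1 := by
    apply huniq
    intro c
    simp
  have hinvl : ∀ g : G, Mf g⁻¹ * Mf g = 1 := by
    intro g
    rw [← hmul, inv_mul_cancel, hone]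
  have hinv : ∀ g : G, Mf g⁻¹ = (Mf g).adjugate := by
    intro g
    calc Mf g⁻¹ = Mf g⁻¹ * (Mf g * (Mf g).adjugate) := by
          rw [Matrix.mul_adjugate, hdet, one_smul, mul_one]
      _ = (Mf g).adjugate := by rw [← mul_assoc, hinvl, one_mul]
  let ρ' : G →* Module.End K (Fin 2 → K) :=
    { toFun := fun g => Matrix.toLin' (Mf g)
      map_one' := by rw [hone, Matrix.toLin'_one]; rfl
      map_mul' := fun g h => by rw [hmul, Matrix.toLin'_mul]; rfl }
  have hρ' : ∀ g : G, ρ' g = Matrix.toLin' (Mf g) := fun g => rfl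
  have hfree' : ∀ g : G, g ≠ 1 → ∀ c : Fin 2 → K, ρ' g c = c → c = 0 := by
    intro g hg c hc
    rw [hρ', Matrix.toLin'_apply] at hc
    have h1 : ρ g.1 (Φ c) = Φ c := by rw [hMf, hc]
    have h2 : Φ c = 0 := hfree g.1 (fun h => hg (Subtype.ext h)) _ h1
    exact hΦ (by rw [h2, map_zero])
  have hτ : ∀ g : G, ρ' g + ρ' g⁻¹ = (Mf g).trace • 1 := by
    intro g
    rw [hρ', hρ', hinv, ← map_add, add_adjugate_fin_two, map_smul, Matrix.toLin'_one]
    rfl
  have hgen : Subgroup.closure {x : G | orderOf x = 3} = ⊤ := by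
    rw [eq_top_iff, ← Subgroup.closure_closure_coe_preimage (k := S)]
    apply Subgroup.closure_mono
    intro x hx
    have := hS x.1 hx
    rwa [Subgroup.orderOf_coe] at this
  obtain ⟨a, ha, b, hb, hab⟩ := hna
  have hna' : ¬ ∀ a b : G, a * b = b * a := by
    intro h
    apply hab
    have := h ⟨a, Subgroup.subset_closure ha⟩ ⟨b, Subgroup.subset_closure hb⟩
    exact congrArg Subtype.val this
  have h2 : (2 : K) ≠ 0 := by
    intro h2
    have : Fintype G := Fintype.ofFinite G
    have hodd : ¬ 2 ∣ Nat.card G := by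
      intro hd
      obtain ⟨g, hg⟩ := exists_prime_orderOf_dvd_card' (G := G) 2 hd
      exact two_ne_zero_of_orderOf_two ρ' hfree' hg h2
    have hcard : ((Nat.card G : ℕ) : K) = 1 := by
      obtain ⟨k, hk⟩ := Nat.odd_iff.mpr (by omega : Nat.card G % 2 = 1)
      rw [hk]
      push_cast
      rw [h2]
      ring
    let E : Matrix (Fin 2) (Fin 2) K := !![1, 0; 0, 0]
    let T : Matrix (Fin 2) (Fin 2) K := ∑ g : G, Mf g * E * Mf g⁻¹
    have htr : T.trace = 1 := by
      have h5 : ∀ g : G, (Mf g * E * Mf g⁻¹).trace = 1 := by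
        intro g
        rw [Matrix.trace_mul_cycle, hinvl, one_mul]
        simp [E, Matrix.trace_fin_two]
      rw [Matrix.trace_sum]
      simp only [h5]
      rw [Finset.sum_const, Finset.card_univ, ← Nat.card_eq_fintype_card, nsmul_eq_mul, hcard,
        mul_one]
    have hcomm : ∀ h : G, T * Mf h = Mf h * T := by
      intro h
      rw [Finset.sum_mul, Finset.mul_sum, ← Equiv.sum_comp (Equiv.mulLeft h)]
      apply Finset.sum_congr rfl
      intro k _
      simp only [Equiv.coe_mulLeft]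
      rw [hmul, mul_inv_rev, hmul k⁻¹ h⁻¹]
      simp only [mul_assoc]
      rw [hinvl, mul_one]
    have hT : T 0 1 ≠ 0 ∨ T 1 0 ≠ 0 ∨ T 0 0 - T 1 1 ≠ 0 := by
      by_contra hcon
      push Not at hcon
      obtain ⟨_, _, c3⟩ := hcon
      rw [Matrix.trace_fin_two] at htr
      have h6 : T 0 0 = T 1 1 := sub_eq_zero.mp c3
      rw [h6, ← two_mul, h2, zero_mul] at htr
      exact zero_ne_one htr
    have h7 := commute_of_commute_nonscalar T (Mf ⟨a, Subgroup.subset_closure ha⟩)
      (Mf ⟨b, Subgroup.subset_closure hb⟩) hT (hcomm _) (hcomm _)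
    rw [← hmul, ← hmul] at h7
    have h8 := rho_injective ρ' hfree' (by rw [hρ', hρ', h7] :
      ρ' (⟨a, Subgroup.subset_closure ha⟩ * ⟨b, Subgroup.subset_closure hb⟩) =
      ρ' (⟨b, Subgroup.subset_closure hb⟩ * ⟨a, Subgroup.subset_closure ha⟩))
    exact hab (congrArg Subtype.val h8)
  obtain ⟨h1, h3⟩ := QC ρ' hfree' (fun g => (Mf g).trace) hτ h2 hgen hna'
  refine ⟨h1, fun g hg => ?_⟩
  rcases h3 ⟨g, hg⟩ with h | h | h
  · exact Or.inl (congrArg Subtype.val h)
  · exact Or.inr (Or.inl (congrArg Subtype.val h))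
  · exact Or.inr (Or.inr (congrArg Subtype.val h))

omit hfree in
theorem rho_apply_injective (g : H) {u v : V} (h : ρ g u = ρ g v) : u = v := by
  have h1 : ρ g⁻¹ (ρ g u) = ρ g⁻¹ (ρ g v) := by rw [h]
  rwa [← Module.End.mul_apply, ← Module.End.mul_apply, rho_inv_mul, Module.End.one_apply,
    Module.End.one_apply] at h1

omit [Nontrivial V] in
theorem rho_order_three {x : H} (hx : orderOf x = 3) (v : V) :
    ρ x (ρ x v) = - ρ x v - v := by
  have hx1 : x ≠ 1 := by
    rintro rfl
    simp at hx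
  have h3 : ρ x (ρ x (ρ x v)) = v := by
    rw [← Module.End.mul_apply, ← Module.End.mul_apply, ← map_mul, ← map_mul]
    have h := pow_orderOf_eq_one x
    rw [hx, pow_three'] at h
    rw [h, map_one, Module.End.one_apply]
  have h4 : ρ x (ρ x (ρ x v) + ρ x v + v) = ρ x (ρ x v) + ρ x v + v := by
    rw [map_add, map_add, h3]
    abel
  have h5 := hfree x hx1 _ h4
  rw [← sub_eq_zero, ← h5]
  abel

end

section Phi

variable {K V : Type*} [Field K] [AddCommGroup V] [Module K V]

/-- the linear map `K² → V` with given images of the basis vectors -/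
def Phi (e0 e1 : V) : (Fin 2 → K) →ₗ[K] V :=
  (LinearMap.proj 0 : (Fin 2 → K) →ₗ[K] K).smulRight e0 +
    (LinearMap.proj 1 : (Fin 2 → K) →ₗ[K] K).smulRight e1

theorem Phi_apply (e0 e1 : V) (c : Fin 2 → K) : Phi e0 e1 c = c 0 • e0 + c 1 • e1 := by
  simp [Phi]

theorem Phi_injective (e0 e1 : V) (h : ∀ a b : K, a • e0 + b • e1 = 0 → a = 0 ∧ b = 0) :
    Function.Injective (Phi e0 e1 : (Fin 2 → K) →ₗ[K] V) := by
  rw [injective_iff_map_eq_zero]
  intro c hc
  rw [Phi_apply] at hc
  obtain ⟨h0, h1⟩ := h _ _ hc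
  ext i
  fin_cases i
  · exact h0
  · exact h1

theorem Phi_intertwine (e0 e1 : V) (A : Module.End K V) (M : Matrix (Fin 2) (Fin 2) K)
    (h0 : A e0 = M 0 0 • e0 + M 1 0 • e1) (h1 : A e1 = M 0 1 • e0 + M 1 1 • e1)
    (c : Fin 2 → K) : A (Phi e0 e1 c) = Phi e0 e1 (M.mulVec c) := by
  rw [Phi_apply, Phi_apply, map_add, map_smul, map_smul, h0, h1]
  simp only [Matrix.mulVec, dotProduct, Fin.sum_univ_two]
  module

end Phi

section

variable {K V H : Type*} [Field K] [AddCommGroup V] [Module K V] [Nontrivial V] [Group H]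
  (ρ : H →* Module.End K V) (hfree : ∀ g : H, g ≠ 1 → ∀ v : V, ρ g v = v → v = 0)

include hfree

theorem QP [IsAlgClosed K] [FiniteDimensional K V] [Finite H] (x y : H) (hx : orderOf x = 3)
    (hy : orderOf y = 3) (hxy : x * y ≠ y * x) :
    (Nat.card (Subgroup.closure ({x, y} : Set H)) = 24 ∨
      Nat.card (Subgroup.closure ({x, y} : Set H)) = 120) ∧
      ∀ g ∈ Subgroup.closure ({x, y} : Set H), g ^ 4 = 1 ∨ g ^ 6 = 1 ∨ g ^ 10 = 1 := by
  obtain ⟨μ, hμ⟩ := Module.End.exists_eigenvalue (ρ (x * y))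
  obtain ⟨w, hw⟩ := hμ.exists_hasEigenvector
  have hw0 : w ≠ 0 := hw.2
  have hw1 : ρ x (ρ y w) = μ • w := by
    rw [← Module.End.mul_apply, ← map_mul]
    exact hw.apply_eq_smul
  have hμ0 : μ ≠ 0 := by
    rintro rfl
    rw [zero_smul] at hw1
    apply hw0
    apply rho_apply_injective ρ y
    apply rho_apply_injective ρ x
    rw [hw1, map_zero, map_zero]
  have hind : ∀ a b : K, a • w + b • ρ y w = 0 → a = 0 ∧ b = 0 := by
    intro a b hab
    by_cases hb : b = 0
    · subst hb
      rw [zero_smul, add_zero] at hab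
      exact ⟨(smul_eq_zero.mp hab).resolve_right hw0, rfl⟩
    · exfalso
      have h1 : ρ y w = (-a / b) • w := by
        have : b • ρ y w = (-a) • w := by
          rw [neg_smul]
          exact eq_neg_of_add_eq_zero_right hab
        rw [div_eq_inv_mul, mul_smul, ← this, smul_smul, inv_mul_cancel₀ hb, one_smul]
      set ν := -a / b with hν
      have hν0 : ν ≠ 0 := by
        intro h0
        rw [h0, zero_smul] at h1
        rw [h1, map_zero] at hw1
        exact (smul_ne_zero hμ0 hw0) hw1.symm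
      have h2 : ρ x w = (μ / ν) • w := by
        rw [h1, map_smul] at hw1
        rw [div_eq_inv_mul, mul_smul, ← hw1, smul_smul, inv_mul_cancel₀ hν0, one_smul]
      apply hxy
      apply eq_of_apply_eq ρ hfree hw0
      rw [map_mul, map_mul, Module.End.mul_apply, Module.End.mul_apply, hw1, h2, map_smul, h1,
        smul_smul, div_mul_cancel₀ _ hν0]
  have hxw : ρ x w = - w - μ⁻¹ • ρ y w := by
    apply rho_apply_injective ρ x
    rw [rho_order_three ρ hfree hx, map_sub, map_neg, map_smul, hw1, smul_smul,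
      inv_mul_cancel₀ hμ0, one_smul]
  apply Q_of_intertwine ρ hfree {x, y} ?_ (Phi w (ρ y w)) (Phi_injective _ _ hind) ?_
    ⟨x, by simp, y, by simp, hxy⟩
  · intro s hs
    rcases hs with rfl | rfl
    · exact hx
    · exact hy
  · intro s hs
    rcases hs with rfl | rfl
    · refine ⟨!![-1, μ; -μ⁻¹, 0], ?_, Phi_intertwine _ _ _ _ ?_ ?_⟩
      · rw [Matrix.det_fin_two_of]
        field_simp
        ring
      · rw [hxw]
        simp
        module
      · rw [hw1]
        simp
    · refine ⟨!![0, -1; 1, -1], ?_, Phi_intertwine _ _ _ _ ?_ ?_⟩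
      · rw [Matrix.det_fin_two_of]
        ring
      · simp
      · rw [rho_order_three ρ hfree hy]
        simp
        module

theorem three_ne_zero_of_orderOf_three {x : H} (hx : orderOf x = 3) : (3 : K) ≠ 0 := by
  intro h3
  have hx1 : x ≠ 1 := by
    rintro rfl
    simp at hx
  obtain ⟨v, hv⟩ := exists_ne (0 : V)
  have h1 : ρ x (ρ x v - v) = ρ x v - v := by
    rw [map_sub, rho_order_three ρ hfree hx]
    linear_combination (norm := module) (-h3) • ρ x v
  have h2 := hfree x hx1 _ h1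
  exact hv (hfree x hx1 v (sub_eq_zero.mp h2))

theorem rho_inv_order_three {x : H} (hx : orderOf x = 3) (v : V) : ρ x⁻¹ v = - v - ρ x v := by
  apply rho_apply_injective ρ x
  rw [← Module.End.mul_apply, rho_mul_inv, Module.End.one_apply, map_sub, map_neg,
    rho_order_three ρ hfree hx]
  abel

theorem rho_order_four {g : H} (hg : orderOf g = 4) (v : V) : ρ g (ρ g v) = - v := by
  have h2 : orderOf (g ^ 2) = 2 := by
    rw [orderOf_pow' g (by norm_num), hg]
    norm_num
  have h3 := rho_eq_neg_one_of_orderOf_two ρ hfree h2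
  rw [← Module.End.mul_apply, ← map_mul, ← pow_two, h3]
  simp

theorem rho_anti {x y : H} (hx : orderOf x = 3) (hy : orderOf y = 3)
    (hxy : orderOf (x * y) = 4) (v : V) :
    ρ x (ρ y v) + ρ y (ρ x v) = - v - ρ x v - ρ y v := by
  have h1 : ρ (x * y)⁻¹ v = - ρ (x * y) v := by
    apply rho_apply_injective ρ (x * y)
    rw [← Module.End.mul_apply, rho_mul_inv, Module.End.one_apply, map_neg,
      rho_order_four ρ hfree hxy, neg_neg]
  rw [mul_inv_rev, map_mul, map_mul, Module.End.mul_apply, Module.End.mul_apply,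
    rho_inv_order_three ρ hfree hx, map_sub, map_neg, rho_inv_order_three ρ hfree hy,
    rho_inv_order_three ρ hfree hy] at h1
  linear_combination (norm := module) h1

omit hfree [Nontrivial V] in
/-- the operator `2 ρ(x) + 1 = ρ(x) - ρ(x)⁻¹` -/
def Top (x : H) : Module.End K V := (2 : K) • ρ x + 1

omit hfree [Nontrivial V] in
theorem Top_apply (x : H) (u : V) : Top ρ x u = (2 : K) • ρ x u + u := by
  simp [Top]

omit [Nontrivial V] in
theorem Top_sq {x : H} (hx : orderOf x = 3) (u : V) : Top ρ x (Top ρ x u) = (-3 : K) • u := by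
  rw [Top_apply, Top_apply, map_add, map_smul, rho_order_three ρ hfree hx]
  module

theorem Top_anti {x y : H} (hx : orderOf x = 3) (hy : orderOf y = 3)
    (hxy : orderOf (x * y) = 4) (u : V) :
    Top ρ x (Top ρ y u) + Top ρ y (Top ρ x u) = (-2 : K) • u := by
  simp only [Top_apply, map_add, map_smul]
  linear_combination (norm := module) (4 : K) • rho_anti ρ hfree hx hy hxy u

omit hfree [Nontrivial V] in
theorem rho_eq_Top (h2 : (2 : K) ≠ 0) (x : H) (u : V) :
    ρ x u = (2 : K)⁻¹ • (Top ρ x u - u) := by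
  rw [Top_apply, add_sub_cancel_right, smul_smul, inv_mul_cancel₀ h2, one_smul]

end

section basis

variable {K V : Type*} [Field K] [AddCommGroup V] [Module K V] [Nontrivial V]

theorem exists_basis_of_anti [IsAlgClosed K] [FiniteDimensional K V] (T0 T1 T2 : Module.End K V)
    (hK2 : (2 : K) ≠ 0) (hK3 : (3 : K) ≠ 0)
    (s0 : ∀ u, T0 (T0 u) = (-3 : K) • u) (s1 : ∀ u, T1 (T1 u) = (-3 : K) • u)
    (s2 : ∀ u, T2 (T2 u) = (-3 : K) • u)
    (a1 : ∀ u, T0 (T1 u) + T1 (T0 u) = (-2 : K) • u)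
    (a2 : ∀ u, T0 (T2 u) + T2 (T0 u) = (-2 : K) • u) :
    ∃ (e0 e1 : V) (θ μ κ : K), θ ^ 2 = -3 ∧ κ ≠ 0 ∧
      (∀ a b : K, a • e0 + b • e1 = 0 → a = 0 ∧ b = 0) ∧
      T0 e0 = θ • e0 ∧ T0 e1 = (-θ) • e1 ∧
      T2 e0 = μ • e0 + e1 ∧ T2 e1 = (-(3 + μ ^ 2)) • e0 + (-μ) • e1 ∧
      T1 e0 = μ • e0 + (-(3 + μ ^ 2) / κ) • e1 ∧ T1 e1 = κ • e0 + (-μ) • e1 := by
  obtain ⟨θ, hθ⟩ := Module.End.exists_eigenvalue T0
  obtain ⟨v, hv⟩ := hθ.exists_hasEigenvector
  have hv1 : T0 v = θ • v := hv.apply_eq_smul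
  have hθ2 : θ ^ 2 = -3 := by
    have h := s0 v
    rw [hv1, map_smul, hv1, smul_smul] at h
    have h' : (θ * θ - (-3)) • v = 0 := by rw [sub_smul, h, sub_self]
    have := (smul_eq_zero.mp h').resolve_right hv.2
    linear_combination this
  have hθ0 : θ ≠ 0 := by
    rintro rfl
    apply hK3
    linear_combination hθ2
  set μ : K := -θ⁻¹ with hμ
  have hμθ : μ * θ = -1 := by
    rw [hμ]
    field_simp
  have hc : 3 + μ ^ 2 ≠ 0 := by
    intro h
    have h8 : (2 : K) ^ 3 = 0 := by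
      linear_combination (-θ ^ 2) * h + (μ * θ - 1) * hμθ + 3 * hθ2
    exact hK2 (pow_eq_zero_iff (by norm_num) |>.mp h8)
  have lemA : ∀ (T : Module.End K V), (∀ u, T0 (T u) + T (T0 u) = (-2 : K) • u) →
      ∀ u, T0 u = θ • u → T0 (T u - μ • u) = (-θ) • (T u - μ • u) := by
    intro T a u hu
    have a' := a u
    rw [hu, map_smul] at a'
    rw [map_sub, map_smul, hu]
    linear_combination (norm := module) a' - (2 : K) • (hμθ • u)
  have lemB : ∀ (T : Module.End K V), (∀ u, T0 (T u) + T (T0 u) = (-2 : K) • u) →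
      ∀ u, T0 u = (-θ) • u → T0 (T u + μ • u) = θ • (T u + μ • u) := by
    intro T a u hu
    have a' := a u
    rw [hu, map_smul] at a'
    rw [map_add, map_smul, hu]
    linear_combination (norm := module) a' - (2 : K) • (hμθ • u)
  set N : Module.End K V := (T1 + μ • 1) * (T2 - μ • 1) with hN
  have hNa : ∀ u, N u = T1 (T2 u - μ • u) + μ • (T2 u - μ • u) := by
    intro u
    simp [hN]
  have hNp : ∀ u ∈ Module.End.eigenspace T0 θ, N u ∈ Module.End.eigenspace T0 θ := by
    intro u hu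
    rw [Module.End.mem_eigenspace_iff] at hu ⊢
    rw [hNa]
    exact lemB T1 a1 _ (lemA T2 a2 u hu)
  have : Nontrivial (Module.End.eigenspace T0 θ) := Submodule.nontrivial_iff_ne_bot.mpr hθ
  obtain ⟨κ, hκ⟩ := Module.End.exists_eigenvalue (N.restrict hNp)
  obtain ⟨e, he⟩ := hκ.exists_hasEigenvector
  have he0 : (e : V) ≠ 0 := fun h => he.2 (Subtype.ext h)
  have heθ : T0 (e : V) = θ • (e : V) := Module.End.mem_eigenspace_iff.mp e.2
  have heN : N (e : V) = κ • (e : V) := by
    have := congrArg Subtype.val he.apply_eq_smul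
    simpa using this
  set e0 : V := (e : V) with he0def
  set e1 : V := T2 e0 - μ • e0 with he1def
  rw [hNa, ← he1def] at heN
  have h20 : T2 e0 = μ • e0 + e1 := by
    rw [he1def]
    abel
  have h21 : T2 e1 = (-(3 + μ ^ 2)) • e0 + (-μ) • e1 := by
    rw [he1def, map_sub, map_smul, s2]
    module
  have h11 : T1 e1 = κ • e0 + (-μ) • e1 := by
    linear_combination (norm := module) heN
  have he1 : e1 ≠ 0 := by
    intro h
    rw [h, map_zero, smul_zero, add_zero] at h21
    exact (smul_ne_zero (neg_ne_zero.mpr hc) he0) h21.symm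
  have hκ0 : κ ≠ 0 := by
    rintro rfl
    have h := s1 e1
    rw [h11, map_add, map_smul, map_smul, h11] at h
    have h' : (3 + μ ^ 2) • e1 = 0 := by
      linear_combination (norm := module) h
    exact (smul_ne_zero hc he1) h'
  have h10 : T1 e0 = μ • e0 + (-(3 + μ ^ 2) / κ) • e1 := by
    have h := s1 e1
    rw [h11, map_add, map_smul, map_smul, h11] at h
    have h' : κ • T1 e0 = κ • (μ • e0 + (-(3 + μ ^ 2) / κ) • e1) := by
      have hk : κ * (-(3 + μ ^ 2) / κ) = -(3 + μ ^ 2) := by field_simp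
      linear_combination (norm := module) h - hk • e1
    exact smul_right_injective V hκ0 h'
  refine ⟨e0, e1, θ, μ, κ, hθ2, hκ0, ?_, heθ, lemA T2 a2 e0 heθ, h20, h21, h10, h11⟩
  intro a b hab
  have h1 : T0 (a • e0 + b • e1) = 0 := by rw [hab, map_zero]
  rw [map_add, map_smul, map_smul, heθ, lemA T2 a2 e0 heθ, ← he1def] at h1
  have ha : (2 * θ * a) • e0 = 0 := by
    linear_combination (norm := module) h1 + θ • hab
  have hb : (2 * θ * b) • e1 = 0 := by
    linear_combination (norm := module) -h1 + θ • hab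
  have ha' := (smul_eq_zero.mp ha).resolve_right he0
  have hb' := (smul_eq_zero.mp hb).resolve_right he1
  have h2θ : 2 * θ ≠ 0 := mul_ne_zero hK2 hθ0
  exact ⟨(mul_eq_zero.mp ha').resolve_left h2θ, (mul_eq_zero.mp hb').resolve_left h2θ⟩

end basis

section

variable {K V H : Type*} [Field K] [AddCommGroup V] [Module K V] [Nontrivial V] [Group H]
  (ρ : H →* Module.End K V) (hfree : ∀ g : H, g ≠ 1 → ∀ v : V, ρ g v = v → v = 0)

include hfree

theorem QT [IsAlgClosed K] [FiniteDimensional K V] [Finite H] (x0 x1 x2 : H)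
    (h0 : orderOf x0 = 3) (h1 : orderOf x1 = 3) (h2 : orderOf x2 = 3)
    (h01 : orderOf (x0 * x1) = 4) (h02 : orderOf (x0 * x2) = 4) :
    Nat.card (Subgroup.closure ({x0, x1, x2} : Set H)) = 24 ∨
      Nat.card (Subgroup.closure ({x0, x1, x2} : Set H)) = 120 := by
  have hK2 : (2 : K) ≠ 0 := by
    apply two_ne_zero_of_orderOf_two ρ hfree (g := (x0 * x1) ^ 2)
    rw [orderOf_pow' _ (by norm_num), h01]
    norm_num
  have hK3 : (3 : K) ≠ 0 := three_ne_zero_of_orderOf_three ρ hfree h0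
  obtain ⟨e0, e1, θ, μ, κ, hθ2, hκ0, hind, t00, t01, t20, t21, t10, t11⟩ :=
    exists_basis_of_anti (Top ρ x0) (Top ρ x1) (Top ρ x2) hK2 hK3 (Top_sq ρ hfree h0)
      (Top_sq ρ hfree h1) (Top_sq ρ hfree h2) (Top_anti ρ hfree h0 h1 h01)
      (Top_anti ρ hfree h0 h2 h02)
  have hna : x0 * x1 ≠ x1 * x0 := by
    intro hc
    have h3 : (x0 * x1) ^ 3 = 1 := by
      rw [(show Commute x0 x1 from hc).mul_pow, ← h0, pow_orderOf_eq_one, h0, ← h1,
        pow_orderOf_eq_one, one_mul]
    have := orderOf_dvd_of_pow_eq_one h3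
    rw [h01] at this
    omega
  refine (Q_of_intertwine ρ hfree {x0, x1, x2} ?_ (Phi e0 e1) (Phi_injective _ _ hind) ?_
    ⟨x0, by simp, x1, by simp, hna⟩).1
  · intro s hs
    rcases hs with rfl | rfl | rfl
    · exact h0
    · exact h1
    · exact h2
  · intro s hs
    rcases hs with rfl | rfl | rfl
    · refine ⟨!![(θ - 1) / 2, 0; 0, (-θ - 1) / 2], ?_, Phi_intertwine _ _ _ _ ?_ ?_⟩
      · rw [Matrix.det_fin_two_of]
        field_simp
        linear_combination -hθ2
      · rw [rho_eq_Top ρ hK2, t00]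
        simp
        module
      · rw [rho_eq_Top ρ hK2, t01]
        simp
        module
    · refine ⟨!![(μ - 1) / 2, κ / 2; -(3 + μ ^ 2) / κ / 2, (-μ - 1) / 2], ?_,
        Phi_intertwine _ _ _ _ ?_ ?_⟩
      · rw [Matrix.det_fin_two_of]
        field_simp
        ring
      · rw [rho_eq_Top ρ hK2, t10]
        simp
        module
      · rw [rho_eq_Top ρ hK2, t11]
        simp
        module
    · refine ⟨!![(μ - 1) / 2, -(3 + μ ^ 2) / 2; 1 / 2, (-μ - 1) / 2], ?_,
        Phi_intertwine _ _ _ _ ?_ ?_⟩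
      · rw [Matrix.det_fin_two_of]
        field_simp
        ring
      · rw [rho_eq_Top ρ hK2, t20]
        simp
        module
      · rw [rho_eq_Top ρ hK2, t21]
        simp
        module

end

end Cfsg.Agent.Lib.Helper76.Zass
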