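import Mathlib
import Cfsg.Agent.Lib.Helper41.RegLin4
import Cfsg.Agent.Lib.Helper11.TwoComplement
import Cfsg.Agent.S0688
import Cfsg.Agent.S0689

/-!
# Rung NF of the ladder SHARP3-EVEN

A linear group over an odd prime field which is regular on the nonzero vectors and has at most one
subgroup of order three has a subgroup of index two (uses the classification of finite
near-fields, S0688 and S0689).
-/

set_option autoImplicit false

namespace Cfsg.Agent.Lib.Helper76.NF

/-- `X` has a subgroup of index two. -/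
def I2 (X : Type*) [Group X] : Prop := ∃ N : Subgroup X, N.index = 2

theorem I2_of_surj {X Y : Type*} [Group X] [Group Y] (f : X →* Y) (hf : Function.Surjective f)
    (h : I2 Y) : I2 X := by
  obtain ⟨N, hN⟩ := h
  exact ⟨N.comap f, by rw [Subgroup.index_comap_of_surjective _ hf, hN]⟩

theorem I2_of_quot {X : Type*} [Group X] (N : Subgroup X) [N.Normal] (h : I2 (X ⧸ N)) : I2 X :=
  I2_of_surj (QuotientGroup.mk' N) (QuotientGroup.mk'_surjective N) h

theorem I2_of_two_pow {X : Type*} [Group X] [Finite X] {k : ℕ}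
    (hX : Nat.card X = 2 ^ (k + 1)) : I2 X := by
  have : Fact (Nat.Prime 2) := ⟨Nat.prime_two⟩
  obtain ⟨M, hM⟩ := Sylow.exists_subgroup_card_pow_prime (G := X) 2 (n := k)
    (by rw [hX]; exact pow_dvd_pow 2 (Nat.le_succ k))
  refine ⟨M, ?_⟩
  have h1 := M.card_mul_index
  rw [hM, hX, pow_succ] at h1
  exact Nat.eq_of_mul_eq_mul_left (by positivity) h1

theorem I2_of_pgroup {X : Type*} [Group X] [Finite X] [Nontrivial X] (hP : IsPGroup 2 X) :
    I2 X := by
  have : Fact (Nat.Prime 2) := ⟨Nat.prime_two⟩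
  obtain ⟨n, hn⟩ := IsPGroup.iff_card.mp hP
  rcases n with _ | k
  · exfalso
    have := Finite.one_lt_card (α := X)
    rw [hn] at this
    simp at this
  · exact I2_of_two_pow hn

theorem I2_of_comm_even {Y : Type*} [CommGroup Y] [Finite Y] (h : Even (Nat.card Y)) : I2 Y := by
  have : Fact (Nat.Prime 2) := ⟨Nat.prime_two⟩
  let f : Y →* Y := powMonoidHom 2
  obtain ⟨z, hz⟩ := exists_prime_orderOf_dvd_card' (G := Y) 2 h.two_dvd
  have hz1 : z ≠ 1 := by
    rintro rfl
    rw [orderOf_one] at hz
    omega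
  have hfz : f z = 1 := by
    show z ^ 2 = 1
    rw [← hz, pow_orderOf_eq_one]
  have hninj : ¬ Function.Injective f := fun hi => hz1 (hi (hfz.trans (map_one f).symm))
  have hnsurj : ¬ Function.Surjective f := fun hs => hninj (Finite.injective_iff_surjective.mpr hs)
  have hR : f.range ≠ ⊤ := fun h => hnsurj (MonoidHom.range_eq_top.mp h)
  apply I2_of_quot f.range
  have : Nontrivial (Y ⧸ f.range) := by
    rw [← Finite.one_lt_card_iff_nontrivial]
    have h1 : f.range.index ≠ 1 := fun h => hR (Subgroup.index_eq_one.mp h)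
    have h0 : f.range.index ≠ 0 := Subgroup.index_ne_zero_of_finite
    show 1 < f.range.index
    omega
  apply I2_of_pgroup
  intro g
  obtain ⟨y, rfl⟩ := QuotientGroup.mk_surjective g
  refine ⟨1, ?_⟩
  rw [pow_one, ← QuotientGroup.mk_pow, QuotientGroup.eq_one_iff]
  exact ⟨y, rfl⟩

theorem I2_of_cyclic_sylow {X : Type*} [Group X] [Finite X] (T : Sylow 2 X)
    (hT : IsCyclic (T : Subgroup X)) (h : Even (Nat.card X)) : I2 X := by
  obtain ⟨N, hN, hodd, k, hk⟩ := Cfsg.Agent.Lib.Helper11.NC_of_cyclic_sylow T hT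
  apply I2_of_quot N
  rcases k with _ | k
  · exfalso
    have h1 := N.card_mul_index
    rw [hk, pow_zero, mul_one] at h1
    rw [← h1] at h
    exact (Nat.not_even_iff_odd.mpr hodd) h
  · exact I2_of_two_pow (k := k) hk

theorem I2_of_sylow_normal {X : Type*} [Group X] [Finite X] (r k : ℕ) [hr : Fact r.Prime]
    (hr2 : r ≠ 2) (hX : Nat.card X = r * 2 ^ (k + 1))
    (hd : ∀ d, d ∣ r * 2 ^ (k + 1) → d % r = 1 → d = 1) : I2 X := by
  obtain ⟨Q⟩ : Nonempty (Sylow r X) := inferInstance
  have h1 : Nat.card (Sylow r X) = 1 := by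
    apply hd
    · rw [← hX]
      exact (Sylow.card_dvd_index Q).trans (Subgroup.index_dvd_card _)
    · have := card_sylow_modEq_one r X
      rw [Nat.ModEq, Nat.mod_eq_of_lt hr.out.one_lt] at this
      exact this
  have hQn : (Q : Subgroup X).Normal := by
    have : Subsingleton (Sylow r X) := (Nat.card_eq_one_iff_unique.mp h1).1
    exact Sylow.normal_of_subsingleton Q
  apply I2_of_quot (Q : Subgroup X)
  apply I2_of_two_pow (k := k)
  show (Q : Subgroup X).index = 2 ^ (k + 1)
  obtain ⟨m, hm⟩ := IsPGroup.iff_card.mp Q.isPGroup'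
  have hm' : Nat.card (Q : Subgroup X) = r ^ m := hm
  have hci := (Q : Subgroup X).card_mul_index
  have hnd := Q.not_dvd_index
  rw [hm', hX] at hci
  have hr0 : 0 < r := hr.out.pos
  rcases m with _ | _ | m
  · exfalso
    apply hnd
    rw [pow_zero, one_mul] at hci
    rw [hci]
    exact Dvd.intro _ rfl
  · rw [zero_add, pow_one] at hci
    exact Nat.eq_of_mul_eq_mul_left hr0 hci
  · exfalso
    have h3 : r * (r * r ^ m * (Q : Subgroup X).index) = r * 2 ^ (k + 1) := by
      rw [← hci]; ring
    have h4 := Nat.eq_of_mul_eq_mul_left hr0 h3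
    have h5 : r ∣ 2 ^ (k + 1) := ⟨r ^ m * (Q : Subgroup X).index, by rw [← h4]; ring⟩
    have h6 := hr.out.dvd_of_dvd_pow h5
    exact hr2 ((Nat.prime_dvd_prime_iff_eq hr.out Nat.prime_two).mp h6)

open Matrix in
/-- an element of order three of `SL(2,5)` -/
def x5 : SpecialLinearGroup (Fin 2) (ZMod 5) := ⟨!![0,-1;1,-1], by decide⟩

open Matrix in
/-- another element of order three of `SL(2,5)` -/
def y5 : SpecialLinearGroup (Fin 2) (ZMod 5) := ⟨!![0,1;-1,-1], by decide⟩

/-- a group into which `SL(2,5)` embeds has two different subgroups of order three -/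
theorem false_of_sl25 {H : Type*} [Group H]
    (j : Matrix.SpecialLinearGroup (Fin 2) (ZMod 5) →* H) (hj : Function.Injective j)
    (h3 : ∀ α β : H, α ≠ 1 → α ^ 3 = 1 → β ≠ 1 → β ^ 3 = 1 → β = α ∨ β = α⁻¹) : False := by
  have hx1 : j x5 ≠ 1 := fun h => (by decide : x5 ≠ 1) (hj (h.trans (map_one j).symm))
  have hy1 : j y5 ≠ 1 := fun h => (by decide : y5 ≠ 1) (hj (h.trans (map_one j).symm))
  have hx3 : j x5 ^ 3 = 1 := by rw [← map_pow, (by decide : x5 ^ 3 = 1), map_one]
  have hy3 : j y5 ^ 3 = 1 := by rw [← map_pow, (by decide : y5 ^ 3 = 1), map_one]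
  rcases h3 _ _ hx1 hx3 hy1 hy3 with h | h
  · exact (by decide : y5 ≠ x5) (hj h)
  · rw [← map_inv] at h
    exact (by decide : y5 ≠ x5⁻¹) (hj h)

theorem exists_index_two_of_regOn {p : ℕ} [Fact p.Prime] (hp2 : p ≠ 2) {V : Type*} [AddCommGroup V] [Module (ZMod p) V] [Finite V] [Nontrivial V] (H : Subgroup (V ≃ₗ[ZMod p] V)) (hreg : ∀ v w : V, v ≠ 0 → w ≠ 0 → ∃! h : H, (h : V ≃ₗ[ZMod p] V) v = w) (h3 : ∀ α β : H, α ≠ 1 → α ^ 3 = 1 → β ≠ 1 → β ^ 3 = 1 → β = α ∨ β = α⁻¹) : ∃ N : Subgroup H, N.index = 2 := by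
  classical
  have hR : Cfsg.Agent.Lib.Helper41.RegOn H := hreg
  have hcard : Nat.card H + 1 = Nat.card V := hR.card_eq
  have hfinH : Finite H := by
    apply Nat.finite_of_card_ne_zero
    have := Finite.one_lt_card (α := V)
    omega
  have hoddV : Odd (Nat.card V) := by
    have _ : Fintype V := Fintype.ofFinite V
    have h1 := Module.card_eq_pow_finrank (K := ZMod p) (V := V)
    rw [Nat.card_eq_fintype_card, h1, ZMod.card]
    exact ((Fact.out : p.Prime).odd_of_ne_two hp2).pow
  have hevenH : Even (Nat.card H) := by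
    obtain ⟨m, hm⟩ := hoddV
    exact ⟨m, by omega⟩
  show I2 H
  by_cases hsolv : Group.IsSolvable H
  · by_cases hI : ∀ A : Subgroup H, A.Normal → IsCyclic A → ∃ W : Submodule (ZMod p) V,
        W ≠ ⊥ ∧ W ≠ ⊤ ∧ ∀ a ∈ A, ∀ v ∈ W, ((a : H) : V ≃ₗ[ZMod p] V) v ∈ W
    · -- Case B
      have hV := Cfsg.Agent.S0688.result H hreg hI hsolv
      have h3dvd : 3 ∣ Nat.card H := by
        rcases hV with h | h | h | h <;> rw [h] at hcard <;> omega
      have : Fact (Nat.Prime 3) := ⟨Nat.prime_three⟩
      obtain ⟨α, hα⟩ := exists_prime_orderOf_dvd_card' (G := H) 3 h3dvd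
      have hα1 : α ≠ 1 := by
        rintro rfl
        rw [orderOf_one] at hα
        omega
      have hα3 : α ^ 3 = 1 := by rw [← hα, pow_orderOf_eq_one]
      have hPn : (Subgroup.zpowers α).Normal := by
        constructor
        intro n hn g
        obtain ⟨k, rfl⟩ := Subgroup.mem_zpowers_iff.mp hn
        have hc : g * α ^ k * g⁻¹ = (g * α * g⁻¹) ^ k := (conj_zpow).symm
        rw [hc]
        apply Subgroup.zpow_mem
        have h1 : g * α * g⁻¹ ≠ 1 := by
          intro h
          apply hα1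
          have : α = g⁻¹ * (g * α * g⁻¹) * g := by group
          rw [this, h]; group
        have h2 : (g * α * g⁻¹) ^ 3 = 1 := by rw [conj_pow, hα3]; group
        rcases h3 α _ hα1 hα3 h1 h2 with h | h
        · rw [h]; exact Subgroup.mem_zpowers α
        · rw [h]; exact Subgroup.inv_mem _ (Subgroup.mem_zpowers α)
      have hPc : Nat.card (Subgroup.zpowers α) = 3 := by rw [Nat.card_zpowers, hα]
      have hq : 3 * Nat.card (H ⧸ Subgroup.zpowers α) = Nat.card H := by
        rw [← hPc]
        exact (Subgroup.zpowers α).card_mul_index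
      apply I2_of_quot (Subgroup.zpowers α)
      rcases hV with h | h | h | h <;> rw [h] at hcard
      · exact I2_of_two_pow (k := 2) (by omega)
      · exact I2_of_two_pow (k := 3) (by omega)
      · have : Fact (Nat.Prime 5) := ⟨by norm_num⟩
        refine I2_of_sylow_normal 5 2 (by norm_num) (by omega) ?_
        intro d hd hd1
        have hmem : d ∈ Nat.divisors 40 := Nat.mem_divisors.mpr ⟨hd, by norm_num⟩
        have : ∀ d ∈ Nat.divisors 40, d % 5 = 1 → d = 1 := by decide
        exact this d hmem hd1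
      · have : Fact (Nat.Prime 11) := ⟨by norm_num⟩
        refine I2_of_sylow_normal 11 3 (by norm_num) (by omega) ?_
        intro d hd hd1
        have hmem : d ∈ Nat.divisors 176 := Nat.mem_divisors.mpr ⟨hd, by norm_num⟩
        have : ∀ d ∈ Nat.divisors 176, d % 11 = 1 → d = 1 := by decide
        exact this d hmem hd1
    · -- Case C
      push Not at hI
      obtain ⟨A, hAn, hAc, hirr⟩ := hI
      have hirr' : ∀ W : Submodule (ZMod p) V,
          (∀ n ∈ A, ∀ v ∈ W, ((n : H) : V ≃ₗ[ZMod p] V) v ∈ W) → W = ⊥ ∨ W = ⊤ := by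
        intro W hW
        by_contra hcon
        push Not at hcon
        obtain ⟨a, ha, v, hv, hav⟩ := hirr W hcon.1 hcon.2
        exact hav (hW a ha v hv)
      have hCcomm := Cfsg.Agent.Lib.Helper41.centralizer_comm_of_irreducible A hirr'
      let f : H →* MulAut A := MulAut.conjNormal
      have hker : f.ker = Subgroup.centralizer (A : Set H) :=
        Cfsg.Agent.Lib.Helper41.conjNormal_ker_eq A
      have hcommAut : ∀ σ τ : MulAut A, σ * τ = τ * σ := by
        intro σ τ
        obtain ⟨m, hm⟩ := MonoidHom.map_cyclic (σ.toMonoidHom)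
        obtain ⟨n, hn⟩ := MonoidHom.map_cyclic (τ.toMonoidHom)
        ext1 g
        have h1 : ∀ g, σ g = g ^ m := hm
        have h2 : ∀ g, τ g = g ^ n := hn
        rw [MulAut.mul_apply, MulAut.mul_apply, h1, h2, h2, h1, ← zpow_mul, ← zpow_mul, mul_comm]
      let _ : CommGroup f.range :=
        { (inferInstance : Group f.range) with
          mul_comm := fun a b => Subtype.ext (hcommAut a b) }
      by_cases hev : Even (Nat.card f.range)
      · exact I2_of_surj f.rangeRestrict f.rangeRestrict_surjective (I2_of_comm_even hev)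
      · have : Fact (Nat.Prime 2) := ⟨Nat.prime_two⟩
        obtain ⟨T⟩ : Nonempty (Sylow 2 H) := inferInstance
        have hTker : ∀ x ∈ (T : Subgroup H), x ∈ Subgroup.centralizer (A : Set H) := by
          intro x hx
          rw [← hker, MonoidHom.mem_ker]
          obtain ⟨k, hk⟩ := T.isPGroup' ⟨x, hx⟩
          have hk' : x ^ 2 ^ k = 1 := congrArg Subtype.val hk
          have h1 : (f.rangeRestrict x) ^ 2 ^ k = 1 := by rw [← map_pow, hk', map_one]
          have h2 : (f.rangeRestrict x) ^ Nat.card f.range = 1 := pow_card_eq_one'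
          have hcop : Nat.Coprime (2 ^ k) (Nat.card f.range) := by
            apply Nat.Coprime.pow_left
            exact Nat.coprime_two_left.mpr (Nat.not_even_iff_odd.mp hev)
          have h4 : f.rangeRestrict x = 1 := by
            have := pow_gcd_eq_one.mpr ⟨h1, h2⟩
            rwa [hcop.gcd_eq_one, pow_one] at this
          exact congrArg Subtype.val h4
        have hTc : IsCyclic (T : Subgroup H) := by
          apply hR.isCyclic
          exact ⟨⟨fun a b => Subtype.ext (hCcomm a (hTker a a.2) b (hTker b b.2))⟩⟩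
        exact I2_of_cyclic_sylow T hTc hevenH
  · -- Case A
    exfalso
    rcases Cfsg.Agent.S0689.result H hreg hsolv with ⟨_, ⟨e⟩⟩ | ⟨_, ⟨e⟩⟩ | ⟨_, ⟨e⟩⟩
    · exact false_of_sl25 e.symm.toMonoidHom e.symm.injective h3
    · exact false_of_sl25 (e.symm.toMonoidHom.comp (MonoidHom.inl _ _))
        (e.symm.injective.comp (fun a b h => congrArg Prod.fst h)) h3
    · exact false_of_sl25 (e.symm.toMonoidHom.comp (MonoidHom.inl _ _))
        (e.symm.injective.comp (fun a b h => congrArg Prod.fst h)) h3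

end Cfsg.Agent.Lib.Helper76.NF
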