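import Mathlib
import Cfsg.Agent.Lib.Helper69.Zass

/-!
# Extending a sign character from a point stabiliser of a triply transitive group

`G = L ∪ L t L`, `L = E ∪ E n E` with `E = L ∩ L^t`, and `lam : L → {±1}` a character with
`lam (t e t) = lam e` on `E`: then `lam` extends to `G`; in particular `G` has a subgroup of
index two as soon as `lam` is non-trivial.
-/

set_option autoImplicit false

namespace Cfsg.Agent.Lib.Helper76

section Bruhat

variable {G : Type*} [Group G]

theorem exists_index_two_of_bruhat (L : Subgroup G) (t : G) (ht : t * t = 1) (htL : t ∉ L)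
    (hG : ∀ g, g ∈ L ∨ ∃ n ∈ L, ∃ m ∈ L, g = n * t * m)
    (lam : G → ℤˣ) (hlam : ∀ x ∈ L, ∀ y ∈ L, lam (x * y) = lam x * lam y)
    (hneg : ∃ x ∈ L, lam x = -1)
    (hinv : ∀ e ∈ L, t * e * t ∈ L → lam (t * e * t) = lam e)
    (h2 : ∀ n ∈ L, ∀ m ∈ L, t * n * t ∉ L → t * m * t ∉ L →
      ∃ e ∈ L, ∃ e' ∈ L, t * e * t ∈ L ∧ t * e' * t ∈ L ∧ m = e * n * e') :
    ∃ M : Subgroup G, M.index = 2 ∧ ∀ x ∈ L, (x ∈ M ↔ lam x = 1) := by
  classical
  have hlam1 : lam 1 = 1 := by
    have := hlam 1 L.one_mem 1 L.one_mem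
    rw [mul_one] at this
    exact (mul_eq_left (a := lam 1) (b := lam 1)).mp this.symm
  have hlaminv : ∀ x ∈ L, lam x⁻¹ = lam x := by
    intro x hx
    have := hlam x hx x⁻¹ (L.inv_mem hx)
    rw [mul_inv_cancel, hlam1] at this
    revert this
    generalize lam x = u
    generalize lam x⁻¹ = v
    revert u v
    decide
  -- well-definedness
  have hWD : ∀ x ∈ L, ∀ y ∈ L, ∀ x' ∈ L, ∀ y' ∈ L, x * t * y = x' * t * y' →
      lam x * lam y = lam x' * lam y' := by
    intro x hx y hy x' hx' y' hy' h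
    have h1 : t * (x'⁻¹ * x) * t = y' * y⁻¹ := by
      have h3 : x'⁻¹ * x * t = t * (y' * y⁻¹) := by
        calc x'⁻¹ * x * t = x'⁻¹ * (x * t * y) * y⁻¹ := by group
          _ = x'⁻¹ * (x' * t * y') * y⁻¹ := by rw [h]
          _ = t * (y' * y⁻¹) := by group
      calc t * (x'⁻¹ * x) * t = t * (x'⁻¹ * x * t) := by group
        _ = t * (t * (y' * y⁻¹)) := by rw [h3]
        _ = (t * t) * (y' * y⁻¹) := by group
        _ = y' * y⁻¹ := by rw [ht, one_mul]
    have he : x'⁻¹ * x ∈ L := L.mul_mem (L.inv_mem hx') hx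
    have h2' := hinv _ he (by rw [h1]; exact L.mul_mem hy' (L.inv_mem hy))
    rw [h1, hlam _ hy' _ (L.inv_mem hy), hlam _ (L.inv_mem hx') _ hx, hlaminv y hy,
      hlaminv x' hx'] at h2'
    revert h2'
    generalize lam x = u1
    generalize lam y = u2
    generalize lam x' = u3
    generalize lam y' = u4
    revert u1 u2 u3 u4
    decide
  -- the constant
  obtain ⟨k0, hk0⟩ : ∃ k0 : ℤˣ, ∀ n ∈ L, t * n * t ∉ L → ∀ n₁ ∈ L, ∀ n₂ ∈ L,
      t * n * t = n₁ * t * n₂ → lam n₁ * lam n₂ = k0 * lam n := by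
    by_cases hex : ∃ n₀ ∈ L, t * n₀ * t ∉ L
    · obtain ⟨n₀, hn₀, hn₀t⟩ := hex
      obtain ⟨a, ha, b, hb, hab⟩ := (hG (t * n₀ * t)).resolve_left hn₀t
      refine ⟨lam a * lam b * lam n₀, ?_⟩
      intro n hn hnt n₁ hn₁ n₂ hn₂ hdec
      obtain ⟨e, he, e', he', het, he't, rfl⟩ := h2 n₀ hn₀ n hn hn₀t hnt
      have h5 : n₁ * t * n₂ = (t * e * t * a) * t * (b * (t * e' * t)) := by
        rw [← hdec]
        calc t * (e * n₀ * e') * t
            = t * e * (t * t) * n₀ * (t * t) * e' * t := by rw [ht]; group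
          _ = (t * e * t) * (t * n₀ * t) * (t * e' * t) := by group
          _ = (t * e * t) * (a * t * b) * (t * e' * t) := by rw [hab]
          _ = (t * e * t * a) * t * (b * (t * e' * t)) := by group
      rw [hWD _ hn₁ _ hn₂ _ (L.mul_mem het ha) _ (L.mul_mem hb he't) h5,
        hlam _ het _ ha, hlam _ hb _ he't, hinv e he het, hinv e' he' he't,
        hlam _ (L.mul_mem he hn₀) _ he', hlam _ he _ hn₀]
      generalize lam e = u1
      generalize lam a = u2
      generalize lam b = u3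
      generalize lam e' = u4
      generalize lam n₀ = u5
      revert u1 u2 u3 u4 u5
      decide
    · push Not at hex
      exact ⟨1, fun n hn hnt => absurd (hex n hn) hnt⟩
  -- the graph of the extension
  let Eps : G → ℤˣ → Prop := fun g v =>
    (g ∈ L ∧ lam g = v) ∨ ∃ n ∈ L, ∃ m ∈ L, g = n * t * m ∧ lam n * lam m * k0 = v
  have hnotL : ∀ n ∈ L, ∀ m ∈ L, n * t * m ∉ L := by
    intro n hn m hm h
    apply htL
    have : t = n⁻¹ * (n * t * m) * m⁻¹ := by group
    rw [this]
    exact L.mul_mem (L.mul_mem (L.inv_mem hn) h) (L.inv_mem hm)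
  have htot : ∀ g, ∃ v, Eps g v := by
    intro g
    rcases hG g with h | ⟨n, hn, m, hm, h⟩
    · exact ⟨_, Or.inl ⟨h, rfl⟩⟩
    · exact ⟨_, Or.inr ⟨n, hn, m, hm, h, rfl⟩⟩
  have hfun : ∀ g v w, Eps g v → Eps g w → v = w := by
    intro g v w hv hw
    rcases hv with ⟨h1, rfl⟩ | ⟨n, hn, m, hm, h1, rfl⟩
    · rcases hw with ⟨_, rfl⟩ | ⟨n, hn, m, hm, h2, rfl⟩
      · rfl
      · exact absurd (h2 ▸ h1) (hnotL n hn m hm)
    · rcases hw with ⟨h2, rfl⟩ | ⟨n', hn', m', hm', h2, rfl⟩
      · exact absurd (h1 ▸ h2) (hnotL n hn m hm)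
      · rw [hWD n hn m hm n' hn' m' hm' (h1.symm.trans h2)]
  have hmul : ∀ g h v w, Eps g v → Eps h w → Eps (g * h) (v * w) := by
    intro g h v w hv hw
    rcases hv with ⟨h1, rfl⟩ | ⟨n, hn, m, hm, rfl, rfl⟩
    · rcases hw with ⟨h2, rfl⟩ | ⟨n', hn', m', hm', rfl, rfl⟩
      · exact Or.inl ⟨L.mul_mem h1 h2, hlam _ h1 _ h2⟩
      · refine Or.inr ⟨g * n', L.mul_mem h1 hn', m', hm', by group, ?_⟩
        rw [hlam _ h1 _ hn']
        simp only [mul_assoc]
    · rcases hw with ⟨h2, rfl⟩ | ⟨n', hn', m', hm', rfl, rfl⟩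
      · refine Or.inr ⟨n, hn, m * h, L.mul_mem hm h2, by group, ?_⟩
        rw [hlam _ hm _ h2]
        generalize lam n = u1
        generalize lam m = u2
        generalize lam h = u3
        generalize k0 = u0
        revert u0 u1 u2 u3
        decide
      · have hx : m * n' ∈ L := L.mul_mem hm hn'
        have hprod : n * t * m * (n' * t * m') = n * (t * (m * n') * t) * m' := by group
        by_cases hc : t * (m * n') * t ∈ L
        · refine Or.inl ⟨?_, ?_⟩
          · rw [hprod]; exact L.mul_mem (L.mul_mem hn hc) hm'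
          · rw [hprod, hlam _ (L.mul_mem hn hc) _ hm', hlam _ hn _ hc, hinv _ hx hc,
              hlam _ hm _ hn']
            generalize lam n = u1
            generalize lam m = u2
            generalize lam n' = u3
            generalize lam m' = u4
            generalize k0 = u0
            revert u0 u1 u2 u3 u4
            decide
        · obtain ⟨x₁, hx₁, x₂, hx₂, hdec⟩ := (hG _).resolve_left hc
          have hk := hk0 _ hx hc x₁ hx₁ x₂ hx₂ hdec
          refine Or.inr ⟨n * x₁, L.mul_mem hn hx₁, x₂ * m', L.mul_mem hx₂ hm', ?_, ?_⟩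
          · rw [hprod, hdec]; group
          · rw [hlam _ hn _ hx₁, hlam _ hx₂ _ hm']
            rw [hlam _ hm _ hn'] at hk
            revert hk
            generalize lam n = u1
            generalize lam m = u2
            generalize lam n' = u3
            generalize lam m' = u4
            generalize lam x₁ = u5
            generalize lam x₂ = u6
            generalize k0 = u0
            revert u0 u1 u2 u3 u4 u5 u6
            decide
  have hone : Eps 1 1 := Or.inl ⟨L.one_mem, hlam1⟩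
  let M : Subgroup G :=
    { carrier := {g | Eps g 1}
      one_mem' := hone
      mul_mem' := fun {a b} ha hb => by
        have := hmul a b 1 1 ha hb
        rwa [mul_one] at this
      inv_mem' := fun {a} ha => by
        obtain ⟨v, hv⟩ := htot a⁻¹
        have h1 := hmul a a⁻¹ 1 v ha hv
        rw [mul_inv_cancel, one_mul] at h1
        have : v = 1 := hfun 1 v 1 h1 hone
        rw [this] at hv
        exact hv }
  have hM : ∀ g, g ∈ M ↔ Eps g 1 := fun _ => Iff.rfl
  refine ⟨M, ?_, ?_⟩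
  · rw [Subgroup.index_eq_two_iff]
    obtain ⟨x, hx, hx1⟩ := hneg
    have hxe : Eps x (-1) := Or.inl ⟨hx, hx1⟩
    refine ⟨x, fun b => ?_⟩
    obtain ⟨v, hv⟩ := htot b
    have hbx := hmul b x v (-1) hv hxe
    rcases Int.units_eq_one_or v with rfl | rfl
    · refine Or.inr ⟨hv, fun h => ?_⟩
      have := hfun _ _ _ hbx ((hM _).mp h)
      revert this
      decide
    · refine Or.inl ⟨?_, fun h => ?_⟩
      · rw [hM]
        have h3 : (-1 : ℤˣ) * (-1) = 1 := by decide
        rwa [h3] at hbx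
      · have := hfun _ _ _ hv ((hM _).mp h)
        revert this
        decide
  · intro x hx
    rw [hM]
    constructor
    · intro h
      exact hfun _ _ _ (Or.inl ⟨hx, rfl⟩) h
    · intro h
      exact Or.inl ⟨hx, h⟩

end Bruhat

section Sharp3

open MulAction

variable {G Ω : Type*} [Group G] [MulAction G Ω]

/-- A triply transitive group in which only the identity fixes three points, whose two-point
stabiliser has a subgroup of index two normalised by an involution swapping the two points, has a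
subgroup of index two. -/
theorem exists_index_two_of_sharp3 [Finite G]
    (h3t : ∀ a b c a' b' c' : Ω, a ≠ b → a ≠ c → b ≠ c → a' ≠ b' → a' ≠ c' → b' ≠ c' →
      ∃ g : G, g • a = a' ∧ g • b = b' ∧ g • c = c')
    (h3 : ∀ g : G, ∀ a b c : Ω, a ≠ b → b ≠ c → a ≠ c → g • a = a → g • b = b → g • c = c → g = 1)
    {a b c : Ω} (hab : a ≠ b) (hac : a ≠ c) (hbc : b ≠ c)
    (s : G) (hsa : s • a = b) (hsb : s • b = a) (hss : s * s = 1)
    (N : Subgroup G) (hN : N ≤ stabilizer G a ⊓ stabilizer G b)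
    (hN2 : N.relIndex (stabilizer G a ⊓ stabilizer G b) = 2)
    (hs : ∀ n ∈ N, s * n * s⁻¹ ∈ N) :
    ∃ M : Subgroup G, M.index = 2 := by
  classical
  have hsinv : s⁻¹ = s := inv_eq_of_mul_eq_one_left hss
  -- a third point outside any pair
  have hthird : ∀ p q : Ω, ∃ r : Ω, r ≠ p ∧ r ≠ q := by
    intro p q
    by_cases h1 : a = p
    · by_cases h2 : b = q
      · exact ⟨c, by rw [← h1]; exact hac.symm, by rw [← h2]; exact hbc.symm⟩
      · by_cases h3' : c = q
        · exact ⟨b, by rw [← h1]; exact hab.symm, h2⟩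
        · exact ⟨c, by rw [← h1]; exact hac.symm, h3'⟩
    · by_cases h2 : a = q
      · by_cases h3' : b = p
        · exact ⟨c, by rw [← h3']; exact hbc.symm, by rw [← h2]; exact hac.symm⟩
        · exact ⟨b, h3', by rw [← h2]; exact hab.symm⟩
      · exact ⟨a, h1, h2⟩
  have h2t : ∀ p q p' q' : Ω, p ≠ q → p' ≠ q' → ∃ g : G, g • p = p' ∧ g • q = q' := by
    intro p q p' q' hpq hpq'
    obtain ⟨r, hr1, hr2⟩ := hthird p q
    obtain ⟨r', hr1', hr2'⟩ := hthird p' q'
    obtain ⟨g, h1, h2, _⟩ := h3t p q r p' q' r' hpq hr1.symm hr2.symm hpq' hr1'.symm hr2'.symm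
    exact ⟨g, h1, h2⟩
  set E : Subgroup G := stabilizer G a ⊓ stabilizer G b with hE
  have hEmem : ∀ g : G, g ∈ E ↔ g • a = a ∧ g • b = b := by
    intro g
    rw [hE, Subgroup.mem_inf, mem_stabilizer_iff, mem_stabilizer_iff]
  have hidx : (N.subgroupOf E).index = 2 := hN2
  -- an element of E outside N
  obtain ⟨h0, h0E, h0N⟩ : ∃ h0 ∈ E, h0 ∉ N := by
    by_contra hcon
    push Not at hcon
    have : N.subgroupOf E = ⊤ := by
      rw [Subgroup.subgroupOf_eq_top]
      exact hcon
    rw [this, Subgroup.index_top] at hidx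
    omega
  have h01 : h0 ≠ 1 := fun h => h0N (h ▸ N.one_mem)
  obtain ⟨K, hKa, hKn, hKfree, hKtr⟩ := Cfsg.Agent.Lib.Helper69.Zass.exists_kernel h2t h3 a b c
    hab hbc hac h0 h01 ((hEmem h0).mp h0E).1 ((hEmem h0).mp h0E).2
  have hKE : ∀ k ∈ K, k ∈ E → k = 1 := by
    intro k hk hkE
    by_contra hk1
    exact hKfree k hk hk1 b hab.symm ((hEmem k).mp hkE).2
  let ν : G → ℤˣ := fun e => if e ∈ N then 1 else -1
  have hν1 : ∀ e, e ∈ N → ν e = 1 := fun e he => if_pos he
  have hν2 : ∀ e, e ∉ N → ν e = -1 := fun e he => if_neg he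
  have hνmul : ∀ e ∈ E, ∀ e' ∈ E, ν (e * e') = ν e * ν e' := by
    intro e he e' he'
    have := Subgroup.mul_mem_iff_of_index_two hidx (a := ⟨e, he⟩) (b := ⟨e', he'⟩)
    simp only [Subgroup.mem_subgroupOf, Subgroup.coe_mul] at this
    by_cases h1 : e ∈ N <;> by_cases h2 : e' ∈ N
    · rw [hν1 _ h1, hν1 _ h2, hν1 _ (this.mpr (by simp [h1, h2]))]; rfl
    · rw [hν1 _ h1, hν2 _ h2, hν2 _ (fun h => by simp [h1, h2] at this; exact this h)]; rfl
    · rw [hν2 _ h1, hν1 _ h2, hν2 _ (fun h => by simp [h1, h2] at this; exact this h)]; rfl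
    · rw [hν2 _ h1, hν2 _ h2, hν1 _ (this.mpr (by simp [h1, h2]))]; rfl
  let lam : G → ℤˣ := fun g => if ∃ k ∈ K, k * g ∈ N then 1 else -1
  have hlamKE : ∀ k ∈ K, ∀ e ∈ E, lam (k * e) = ν e := by
    intro k hk e he
    by_cases h1 : e ∈ N
    · rw [hν1 _ h1]
      exact if_pos ⟨k⁻¹, K.inv_mem hk, by rw [inv_mul_cancel_left]; exact h1⟩
    · rw [hν2 _ h1]
      apply if_neg
      rintro ⟨k', hk', hk'N⟩
      apply h1
      have h4 : k' * k ∈ E := by
        have : k' * k = (k' * (k * e)) * e⁻¹ := by group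
        rw [this]
        exact E.mul_mem (hN hk'N) (E.inv_mem he)
      have h5 := hKE _ (K.mul_mem hk' hk) h4
      have : k' * (k * e) = e := by rw [← mul_assoc, h5, one_mul]
      rwa [this] at hk'N
  set L : Subgroup G := stabilizer G a with hL
  have hLmem : ∀ g : G, g ∈ L ↔ g • a = a := fun g => mem_stabilizer_iff
  have hdec : ∀ g ∈ L, ∃ k ∈ K, ∃ e ∈ E, g = k * e := by
    intro g hg
    have hga := (hLmem g).mp hg
    have hgb : g • b ≠ a := by
      intro h
      apply hab
      have : g • b = g • a := by rw [h, hga]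
      exact (MulAction.injective g this).symm
    obtain ⟨k, hk, hkb⟩ := hKtr b (g • b) hab.symm hgb
    refine ⟨k, hk, k⁻¹ * g, ?_, by group⟩
    rw [hEmem]
    constructor
    · rw [mul_smul, hga, inv_smul_eq_iff, hKa k hk]
    · rw [mul_smul, inv_smul_eq_iff, hkb]
  have hEL : ∀ e ∈ E, e ∈ L := fun e he => (hLmem e).mpr ((hEmem e).mp he).1
  have hlam : ∀ x ∈ L, ∀ y ∈ L, lam (x * y) = lam x * lam y := by
    intro x hx y hy
    obtain ⟨k, hk, e, he, rfl⟩ := hdec x hx
    obtain ⟨k', hk', e', he', rfl⟩ := hdec y hy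
    have : k * e * (k' * e') = (k * (e * k' * e⁻¹)) * (e * e') := by group
    rw [this, hlamKE _ (K.mul_mem hk (hKn e ((hEmem e).mp he).1 k' hk')) _ (E.mul_mem he he'),
      hlamKE k hk e he, hlamKE k' hk' e' he', hνmul e he e' he']
  have hlamE : ∀ e ∈ E, lam e = ν e := by
    intro e he
    have := hlamKE 1 K.one_mem e he
    rwa [one_mul] at this
  -- `t e t ∈ L` iff `e` fixes `b`
  have hcrit : ∀ e : G, s * e * s ∈ L ↔ e • b = b := by
    intro e
    rw [hLmem, mul_smul, mul_smul, hsa]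
    constructor
    · intro h
      have : s • (s • (e • b)) = s • a := by rw [h]
      rwa [← mul_smul, hss, one_smul, hsa] at this
    · intro h
      rw [h, hsb]
  have hA : ∀ g, g ∈ L ∨ ∃ n ∈ L, ∃ m ∈ L, g = n * s * m := by
    -- G = L ∪ L s L
    intro g
    by_cases hg : g • a = a
    · exact Or.inl ((hLmem g).mpr hg)
    · right
      obtain ⟨n, hn1, hn2⟩ := h2t a b a (g • a) hab (Ne.symm hg)
      refine ⟨n, (hLmem n).mpr hn1, (n * s)⁻¹ * g, ?_, by group⟩
      rw [hLmem, mul_smul, inv_smul_eq_iff, mul_smul, hsa, hn2]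
  have hB : ∀ e ∈ L, s * e * s ∈ L → lam (s * e * s) = lam e := by
    -- invariance
    intro e he het
    have heE : e ∈ E := (hEmem e).mpr ⟨(hLmem e).mp he, (hcrit e).mp het⟩
    have hseE : s * e * s ∈ E := by
      rw [hEmem]
      refine ⟨(hLmem _).mp het, ?_⟩
      rw [mul_smul, mul_smul, hsb, ((hEmem e).mp heE).1, hsa]
    rw [hlamE _ hseE, hlamE _ heE]
    by_cases h1 : e ∈ N
    · have := hs e h1
      rw [hsinv] at this
      rw [hν1 _ h1, hν1 _ this]
    · rw [hν2 _ h1, hν2]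
      intro h
      apply h1
      have := hs _ h
      rw [hsinv] at this
      have h6 : s * (s * e * s) * s = (s * s) * e * (s * s) := by group
      rwa [h6, hss, one_mul, mul_one] at this
  have hC : ∀ n ∈ L, ∀ m ∈ L, s * n * s ∉ L → s * m * s ∉ L →
      ∃ e ∈ L, ∃ e' ∈ L, s * e * s ∈ L ∧ s * e' * s ∈ L ∧ m = e * n * e' := by
    -- L = E ∪ E n E
    intro n hn m hm hnt hmt
    rw [hcrit] at hnt hmt
    have hna := (hLmem n).mp hn
    have hma := (hLmem m).mp hm
    have hnb : n • b ≠ a := by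
      intro h
      apply hab
      have : n • b = n • a := by rw [h, hna]
      exact (MulAction.injective n this).symm
    have hmb : m • b ≠ a := by
      intro h
      apply hab
      have : m • b = m • a := by rw [h, hma]
      exact (MulAction.injective m this).symm
    obtain ⟨e, he1, he2, he3⟩ := h3t a b (n • b) a b (m • b) hab hnb.symm (Ne.symm hnt) hab
      hmb.symm (Ne.symm hmt)
    have heE : e ∈ E := (hEmem e).mpr ⟨he1, he2⟩
    have he'E : (e * n)⁻¹ * m ∈ E := by
      rw [hEmem]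
      constructor
      · rw [mul_smul, hma, inv_smul_eq_iff, mul_smul, hna, he1]
      · rw [mul_smul, inv_smul_eq_iff, mul_smul, he3]
    refine ⟨e, hEL e heE, (e * n)⁻¹ * m, hEL _ he'E, (hcrit e).mpr he2,
      (hcrit _).mpr ((hEmem _).mp he'E).2, by group⟩
  obtain ⟨M, hM, _⟩ := exists_index_two_of_bruhat L s hss
    (by rw [hLmem, hsa]; exact hab.symm) hA lam hlam
    ⟨h0, hEL h0 h0E, by rw [hlamE h0 h0E]; exact hν2 _ h0N⟩ hB hC
  exact ⟨M, hM⟩

end Sharp3

end Cfsg.Agent.Lib.Helper76
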