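import Mathlib

/-!
# Coordinatisation by a finite field

A finite abelian group `V` with a commuting family of endomorphisms which is transitive on the
nonzero elements is a one-dimensional vector space over a finite field: for every finite field `F`
with `|F| = |V|` there is an additive isomorphism `κ : V ≃+ F` turning the family into
multiplications.
-/

set_option autoImplicit false
set_option linter.style.haveILetI false
set_option linter.deprecated false

namespace Cfsg.Agent.Lib.Helper76

section Coord

variable {V : Type*} [AddCommGroup V] [Finite V]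

theorem exists_coord (S : Set (AddMonoid.End V))
    (hcomm : ∀ s ∈ S, ∀ t ∈ S, s * t = t * s)
    (htrans : ∀ v w : V, v ≠ 0 → w ≠ 0 → ∃ s ∈ S, s v = w) (v₁ : V) (hv₁ : v₁ ≠ 0)
    {F : Type*} [Field F] [Finite F] (hF : Nat.card F = Nat.card V) :
    ∃ κ : V ≃+ F, κ v₁ = 1 ∧ ∀ s ∈ S, ∀ v, κ (s v) = κ (s v₁) * κ v := by
  classical
  letI : CommRing (Subring.closure S) := Subring.closureCommRingOfComm hcomm
  have hker : ∀ e : Subring.closure S, ∀ v : V, v ≠ 0 → (e : AddMonoid.End V) v = 0 → e = 0 := by
    intro e v hv hev
    apply Subtype.ext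
    ext w
    by_cases hw : w = 0
    · rw [hw]; simp
    · obtain ⟨s, hs, hsv⟩ := htrans v w hv hw
      have h1 : e * ⟨s, Subring.subset_closure hs⟩ = ⟨s, Subring.subset_closure hs⟩ * e :=
        mul_comm _ _
      have h2 : (e : AddMonoid.End V) * s = s * (e : AddMonoid.End V) :=
        congrArg Subtype.val h1
      have h3 : (e : AddMonoid.End V) (s v) = s ((e : AddMonoid.End V) v) :=
        DFunLike.congr_fun h2 v
      rw [← hsv, h3, hev]
      simp
  haveI : Nontrivial (Subring.closure S) := by
    refine ⟨0, 1, fun h => hv₁ ?_⟩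
    have := congrArg (fun e : Subring.closure S => (e : AddMonoid.End V) v₁) h
    simpa using this.symm
  haveI : NoZeroDivisors (Subring.closure S) := by
    refine ⟨fun {a b} hab => ?_⟩
    by_contra hcon
    push Not at hcon
    apply hcon.2
    by_contra hb
    have hbv : (b : AddMonoid.End V) v₁ ≠ 0 := fun h => hb (hker b v₁ hv₁ h)
    apply hcon.1
    apply hker a _ hbv
    have := congrArg (fun e : Subring.closure S => (e : AddMonoid.End V) v₁) hab
    simpa using this
  haveI : IsDomain (Subring.closure S) := NoZeroDivisors.to_isDomain _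
  haveI : Finite (AddMonoid.End V) :=
    Finite.of_injective (fun f : AddMonoid.End V => (f : V → V)) DFunLike.coe_injective
  haveI : Finite (Subring.closure S) := inferInstance
  letI : Field (Subring.closure S) := (Finite.isField_of_domain (Subring.closure S)).toField
  -- evaluation
  let ev : Subring.closure S →+ V :=
    { toFun := fun e => (e : AddMonoid.End V) v₁
      map_zero' := by simp
      map_add' := by intro a b; rfl }
  have hev_inj : Function.Injective ev := by
    rw [injective_iff_map_eq_zero]
    intro e he
    exact hker e v₁ hv₁ he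
  have hev_surj : Function.Surjective ev := by
    intro w
    by_cases hw : w = 0
    · exact ⟨0, by rw [hw]; simp⟩
    · obtain ⟨s, hs, hsv⟩ := htrans v₁ w hv₁ hw
      exact ⟨⟨s, Subring.subset_closure hs⟩, hsv⟩
  let evE : Subring.closure S ≃+ V := AddEquiv.ofBijective ev ⟨hev_inj, hev_surj⟩
  have hcard : Nat.card (Subring.closure S) = Nat.card F := by
    rw [hF]; exact Nat.card_congr evE.toEquiv
  letI := Fintype.ofFinite (Subring.closure S)
  letI := Fintype.ofFinite F
  let σ : Subring.closure S ≃+* F := FiniteField.ringEquivOfCardEq (by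
    rw [← Nat.card_eq_fintype_card, ← Nat.card_eq_fintype_card]; exact hcard)
  refine ⟨evE.symm.trans σ.toAddEquiv, ?_, ?_⟩
  · have h1 : evE.symm v₁ = 1 := by
      rw [AddEquiv.symm_apply_eq]
      show v₁ = ((1 : Subring.closure S) : AddMonoid.End V) v₁
      simp
    show σ (evE.symm v₁) = 1
    rw [h1, map_one]
  · intro s hs v
    show σ (evE.symm (s v)) = σ (evE.symm (s v₁)) * σ (evE.symm v)
    rw [← map_mul]
    congr 1
    have h1 : evE.symm (s v₁) = ⟨s, Subring.subset_closure hs⟩ := by
      rw [AddEquiv.symm_apply_eq]; rfl
    rw [h1, AddEquiv.symm_apply_eq]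
    show s v = ((⟨s, Subring.subset_closure hs⟩ * evE.symm v : Subring.closure S) :
      AddMonoid.End V) v₁
    have h2 : ((evE.symm v : Subring.closure S) : AddMonoid.End V) v₁ = v :=
      evE.apply_symm_apply v
    rw [Subring.coe_mul]
    show s v = s (((evE.symm v : Subring.closure S) : AddMonoid.End V) v₁)
    rw [h2]

end Coord

end Cfsg.Agent.Lib.Helper76
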