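import Mathlib
import Cfsg.Agent.Lib.Helper76.Coord

/-!
# Rung FIELD of the Zassenhaus `PSL₂` ladder

An abelian group `H` acting fixed-point-freely on an abelian group `F` with `|F| = 2|H| + 1`:
`F` is the additive group of a finite field and `H` acts as the group of nonzero squares.
-/

set_option autoImplicit false

namespace Cfsg.Agent.Lib.Helper76

section ZassField

theorem coord_half {V : Type*} [AddCommGroup V] [Finite V] {H : Type*} [CommGroup H] [Finite H]
    (E : H →* AddMonoid.End V) (hfpf : ∀ h v, E h v = v → h = 1 ∨ v = 0)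
    (hcard : 2 * Nat.card H + 1 = Nat.card V) :
    ∃ (K : Type) (_ : Field K) (_ : Fintype K) (κ : V ≃+ K) (χ : H → K),
      (∀ h v, κ (E h v) = χ h * κ v) ∧ (∀ c : K, (c ≠ 0 ∧ IsSquare c) ↔ ∃ h, χ h = c) := by
  classical
  have hHpos : 0 < Nat.card H := Nat.card_pos
  have hmulA : ∀ (s t : AddMonoid.End V) (v : V), (s * t) v = s (t v) := fun _ _ _ => rfl
  have honeA : ∀ v : V, (1 : AddMonoid.End V) v = v := fun _ => rfl
  -- the double centraliser
  let S : Set (AddMonoid.End V) :=
    {s | ∀ c : AddMonoid.End V, (∀ h : H, c * E h = E h * c) → s * c = c * s}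
  have hES : ∀ h : H, E h ∈ S := fun h c hc => (hc h).symm
  have hSE : ∀ s ∈ S, ∀ h : H, s * E h = E h * s := by
    intro s hs h
    apply hs
    intro h'
    rw [← map_mul, ← map_mul, mul_comm]
  have hcomm : ∀ s ∈ S, ∀ t ∈ S, s * t = t * s := fun s hs t ht => hs t (hSE t ht)
  have hinj : ∀ v : V, v ≠ 0 → Function.Injective (fun h : H => E h v) := by
    intro v hv h h' hh
    have hh' : E h v = E h' v := hh
    have h1 : E (h'⁻¹ * h) v = v := by
      rw [map_mul, hmulA, hh', ← hmulA, ← map_mul,
        inv_mul_cancel, map_one, honeA]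
    rcases hfpf _ _ h1 with h2 | h2
    · exact (inv_mul_eq_one.mp h2).symm
    · exact absurd h2 hv
  have hne0 : ∀ (h : H) (v : V), v ≠ 0 → E h v ≠ 0 := by
    intro h v hv h0
    apply hv
    have : E (h⁻¹ * h) v = 0 := by
      rw [map_mul, hmulA, h0, map_zero]
    rwa [inv_mul_cancel, map_one, honeA] at this
  have hW : ∀ v : V, v ≠ 0 → ∀ w : V, ∃ s ∈ S, s v = w := by
    intro v hv
    let W : AddSubgroup V :=
      { carrier := {w | ∃ s ∈ S, s v = w}
        zero_mem' := ⟨0, fun c _ => by rw [zero_mul, mul_zero], rfl⟩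
        add_mem' := by
          rintro _ _ ⟨s, hs, rfl⟩ ⟨t, ht, rfl⟩
          exact ⟨s + t, fun c hc => by rw [add_mul, mul_add, hs c hc, ht c hc], rfl⟩
        neg_mem' := by
          rintro _ ⟨s, hs, rfl⟩
          exact ⟨-s, fun c hc => by rw [neg_mul, mul_neg, hs c hc], rfl⟩ }
    have hcW : Nat.card H + 1 ≤ Nat.card W := by
      let f : Option H → W := fun o => match o with
        | none => 0
        | some h => ⟨E h v, E h, hES h, rfl⟩
      have hf : Function.Injective f := by
        intro x y hxy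
        cases x with
        | none =>
          cases y with
          | none => rfl
          | some h =>
            exfalso
            have : (0 : V) = E h v := congrArg Subtype.val hxy
            exact hne0 h v hv this.symm
        | some h =>
          cases y with
          | none =>
            exfalso
            have : E h v = (0 : V) := congrArg Subtype.val hxy
            exact hne0 h v hv this
          | some h' =>
            have : E h v = E h' v := congrArg Subtype.val hxy
            rw [hinj v hv this]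
      have := Nat.card_le_card_of_injective f hf
      rwa [Finite.card_option] at this
    have hdvd : Nat.card W ∣ Nat.card V := AddSubgroup.card_addSubgroup_dvd_card W
    have htop : W = ⊤ := by
      apply AddSubgroup.eq_top_of_card_eq
      obtain ⟨k, hk⟩ := hdvd
      have hk1 : k = 1 := by
        have hk0 : k ≠ 0 := by
          rintro rfl
          omega
        by_contra hk1
        have : 2 ≤ k := by omega
        have : Nat.card W * 2 ≤ Nat.card W * k := Nat.mul_le_mul_left _ this
        omega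
      rw [hk, hk1, mul_one]
    intro w
    have : w ∈ W := by rw [htop]; trivial
    exact this
  have htrans : ∀ v w : V, v ≠ 0 → w ≠ 0 → ∃ s ∈ S, s v = w := fun v w hv _ => hW v hv w
  -- prime power
  have hV3 : 3 ≤ Nat.card V := by omega
  obtain ⟨p, hp, hpV⟩ := Nat.exists_prime_and_dvd (n := Nat.card V) (by omega)
  have _ : Fact p.Prime := ⟨hp⟩
  obtain ⟨v₁, hv₁o⟩ := exists_prime_addOrderOf_dvd_card' (G := V) p hpV
  have hv₁ : v₁ ≠ 0 := by
    rintro rfl
    rw [addOrderOf_zero] at hv₁o
    exact hp.one_lt.ne hv₁o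
  have hexp : ∀ w : V, p • w = 0 := by
    intro w
    obtain ⟨s, _, rfl⟩ := hW v₁ hv₁ w
    rw [← map_nsmul, ← hv₁o, addOrderOf_nsmul_eq_zero, map_zero]
  obtain ⟨f, hf⟩ : ∃ f : ℕ, Nat.card V = p ^ f := by
    have hP : IsPGroup p (Multiplicative V) := by
      intro g
      refine ⟨1, ?_⟩
      rw [pow_one]
      exact congrArg Multiplicative.ofAdd (hexp g.toAdd)
    obtain ⟨n, hn⟩ := IsPGroup.iff_card.mp hP
    exact ⟨n, by rw [← hn]; rfl⟩
  have hf0 : f ≠ 0 := by
    rintro rfl
    rw [pow_zero] at hf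
    omega
  have hK : Nat.card (GaloisField p f) = Nat.card V := by
    rw [GaloisField.card p f hf0, hf]
  let _ : Fintype (GaloisField p f) := Fintype.ofFinite _
  obtain ⟨κ, hκ1, hκ⟩ := exists_coord S hcomm htrans v₁ hv₁ (F := GaloisField p f) hK
  let χ : H → GaloisField p f := fun h => κ (E h v₁)
  have hχ : ∀ h v, κ (E h v) = χ h * κ v := fun h v => hκ (E h) (hES h) v
  have hχmul : ∀ h h', χ (h * h') = χ h * χ h' := by
    intro h h'
    show κ (E (h * h') v₁) = _
    rw [map_mul, hmulA, hχ]
  have hχone : χ 1 = 1 := by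
    show κ (E 1 v₁) = 1
    rw [map_one, honeA, hκ1]
  have hχpow : ∀ (h : H) (n : ℕ), χ (h ^ n) = χ h ^ n := by
    intro h n
    induction n with
    | zero => rw [pow_zero, pow_zero, hχone]
    | succ n ih => rw [pow_succ, pow_succ, hχmul, ih]
  have hχinj : Function.Injective χ := by
    intro h h' hh
    exact hinj v₁ hv₁ (κ.injective hh)
  have hχn : ∀ h, χ h ^ Nat.card H = 1 := by
    intro h
    rw [← hχpow, pow_card_eq_one', hχone]
  have hcK : Fintype.card (GaloisField p f) = 2 * Nat.card H + 1 := by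
    rw [← Nat.card_eq_fintype_card, hK, hcard]
  have hchar : ringChar (GaloisField p f) ≠ 2 := by
    intro h2
    have := FiniteField.even_card_iff_char_two.mp h2
    omega
  have hhalf : Fintype.card (GaloisField p f) / 2 = Nat.card H := by omega
  refine ⟨GaloisField p f, inferInstance, inferInstance, κ, χ, hχ, ?_⟩
  intro c
  constructor
  · rintro ⟨hc0, hc⟩
    have hcn : c ^ Nat.card H = 1 := by
      have := (FiniteField.isSquare_iff hchar hc0).mp hc
      rwa [hhalf] at this
    -- counting roots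
    have _ : Fintype H := Fintype.ofFinite H
    have hsub : Finset.univ.image χ ⊆ Polynomial.nthRootsFinset (Nat.card H) (1 : GaloisField p f) := by
      intro x hx
      obtain ⟨h, _, rfl⟩ := Finset.mem_image.mp hx
      rw [Polynomial.mem_nthRootsFinset hHpos]
      exact hχn h
    have hle : (Polynomial.nthRootsFinset (Nat.card H) (1 : GaloisField p f)).card
        ≤ (Finset.univ.image χ).card := by
      rw [Finset.card_image_of_injective _ hχinj, Finset.card_univ, ← Nat.card_eq_fintype_card]
      exact (Multiset.toFinset_card_le _).trans (Polynomial.card_nthRoots _ _)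
    have heq := Finset.eq_of_subset_of_card_le hsub hle
    have hcm : c ∈ Finset.univ.image χ := by
      rw [heq, Polynomial.mem_nthRootsFinset hHpos]
      exact hcn
    obtain ⟨h, _, rfl⟩ := Finset.mem_image.mp hcm
    exact ⟨h, rfl⟩
  · rintro ⟨h, rfl⟩
    have h0 : χ h ≠ 0 := by
      intro h0
      have := hχn h
      rw [h0, zero_pow hHpos.ne'] at this
      exact zero_ne_one this
    refine ⟨h0, (FiniteField.isSquare_iff hchar h0).mpr ?_⟩
    rw [hhalf]
    exact hχn h

theorem exists_field {G : Type*} [Group G] (F H : Subgroup G) [Finite F] [Finite H] (hFab : ∀ a ∈ F, ∀ b ∈ F, a * b = b * a) (hHab : ∀ a ∈ H, ∀ b ∈ H, a * b = b * a) (hnorm : ∀ h ∈ H, ∀ u ∈ F, h * u * h⁻¹ ∈ F) (hfpf : ∀ h ∈ H, ∀ u ∈ F, h * u * h⁻¹ = u → h = 1 ∨ u = 1) (hcard : 2 * Nat.card H + 1 = Nat.card F) : ∃ (K : Type) (_ : Field K) (_ : Fintype K) (φ : G → K) (σ : G → K), (∀ a : K, ∃ u ∈ F, φ u = a) ∧ (∀ u ∈ F, ∀ v ∈ F, φ u = φ v → u = v) ∧ (∀ u ∈ F, ∀ v ∈ F, φ (u * v) = φ u + φ v) ∧ (∀ h ∈ H, ∀ u ∈ F, φ (h * u * h⁻¹) = σ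 h * φ u) ∧ (∀ c : K, (c ≠ 0 ∧ IsSquare c) ↔ ∃ h ∈ H, σ h = c) := by
  classical
  let _ : CommGroup F :=
    { (inferInstance : Group F) with mul_comm := fun a b => Subtype.ext (hFab a a.2 b b.2) }
  let _ : CommGroup H :=
    { (inferInstance : Group H) with mul_comm := fun a b => Subtype.ext (hHab a a.2 b b.2) }
  let cj : H → (F →* F) := fun h =>
    { toFun := fun u => ⟨h * u * h⁻¹, hnorm h h.2 u u.2⟩
      map_one' := Subtype.ext (by simp)
      map_mul' := fun u v => Subtype.ext (by simp) }
  let E : H →* AddMonoid.End (Additive F) :=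
    { toFun := fun h => MonoidHom.toAdditive (cj h)
      map_one' := by
        refine AddMonoidHom.ext fun u => ?_
        apply Additive.toMul.injective
        apply Subtype.ext
        show ((1 : H) : G) * (u.toMul : G) * ((1 : H) : G)⁻¹ = (u.toMul : G)
        simp
      map_mul' := fun h h' => by
        refine AddMonoidHom.ext fun u => ?_
        apply Additive.toMul.injective
        apply Subtype.ext
        show ((h * h' : H) : G) * (u.toMul : G) * ((h * h' : H) : G)⁻¹
          = (h : G) * ((h' : G) * (u.toMul : G) * (h' : G)⁻¹) * (h : G)⁻¹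
        simp [mul_assoc] }
  have hE : ∀ (h : H) (u : F), E h (Additive.ofMul u)
      = Additive.ofMul (⟨h * u * h⁻¹, hnorm h h.2 u u.2⟩ : F) := fun _ _ => rfl
  have hfpf' : ∀ (h : H) (v : Additive F), E h v = v → h = 1 ∨ v = 0 := by
    intro h v hv
    have h1 : (h : G) * (v.toMul : G) * (h : G)⁻¹ = (v.toMul : G) :=
      congrArg (fun x : Additive F => (x.toMul : G)) hv
    rcases hfpf h h.2 _ v.toMul.2 h1 with h2 | h2
    · exact Or.inl (Subtype.ext h2)
    · right
      apply Additive.toMul.injective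
      exact Subtype.ext h2
  have hcard' : 2 * Nat.card H + 1 = Nat.card (Additive F) := hcard
  obtain ⟨K, iK, iF, κ, χ, h1, h2⟩ := coord_half E hfpf' hcard'
  let φ : G → K := fun g => if hg : g ∈ F then κ (Additive.ofMul ⟨g, hg⟩) else 0
  let σ : G → K := fun g => if hg : g ∈ H then χ ⟨g, hg⟩ else 0
  have hφ : ∀ (g : G) (hg : g ∈ F), φ g = κ (Additive.ofMul ⟨g, hg⟩) := fun g hg => dif_pos hg
  have hσ : ∀ (g : G) (hg : g ∈ H), σ g = χ ⟨g, hg⟩ := fun g hg => dif_pos hg
  refine ⟨K, iK, iF, φ, σ, ?_, ?_, ?_, ?_, ?_⟩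
  · intro a
    refine ⟨((κ.symm a).toMul : F), (κ.symm a).toMul.2, ?_⟩
    rw [hφ _ (κ.symm a).toMul.2]
    exact κ.apply_symm_apply a
  · intro u hu v hv huv
    rw [hφ u hu, hφ v hv] at huv
    have := κ.injective huv
    exact congrArg (fun x : Additive F => (x.toMul : G)) this
  · intro u hu v hv
    rw [hφ u hu, hφ v hv, hφ _ (F.mul_mem hu hv), ← map_add]
    rfl
  · intro h hh u hu
    rw [hφ u hu, hσ h hh, hφ _ (hnorm h hh u hu), ← h1]
    rfl
  · intro c
    rw [h2 c]
    constructor
    · rintro ⟨h, rfl⟩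
      exact ⟨h, h.2, hσ h h.2⟩
    · rintro ⟨h, hh, rfl⟩
      exact ⟨⟨h, hh⟩, (hσ h hh).symm⟩

end ZassField

end Cfsg.Agent.Lib.Helper76
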