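import Mathlib

set_option autoImplicit false

namespace Cfsg.Agent.Lib.Helper76

open scoped commutatorElement

set_option maxRecDepth 100000 in
theorem v4_mul : ∀ a b : Equiv.Perm (Fin 4), (a * a = 1 ∧ (a = 1 ∨ ∀ x, a x ≠ x)) →
    (b * b = 1 ∧ (b = 1 ∨ ∀ x, b x ≠ x)) → ((a * b) * (a * b) = 1 ∧ (a * b = 1 ∨ ∀ x, (a * b) x ≠ x)) := by
  decide

set_option maxRecDepth 100000 in
theorem v4_inv : ∀ a : Equiv.Perm (Fin 4), (a * a = 1 ∧ (a = 1 ∨ ∀ x, a x ≠ x)) →
    (a⁻¹ * a⁻¹ = 1 ∧ (a⁻¹ = 1 ∨ ∀ x, a⁻¹ x ≠ x)) := by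
  decide

/-- the Klein four subgroup of `S₄`. -/
def kleinFour : Subgroup (Equiv.Perm (Fin 4)) where
  carrier := {a | a * a = 1 ∧ (a = 1 ∨ ∀ x, a x ≠ x)}
  mul_mem' := fun {a b} ha hb => v4_mul a b ha hb
  one_mem' := by simp
  inv_mem' := fun {a} ha => v4_inv a ha

set_option maxRecDepth 100000 in
theorem a4_mul : ∀ a b : Equiv.Perm (Fin 4), (a * a * a = 1 ∨ (a * a = 1 ∧ ∀ x, a x ≠ x)) →
    (b * b * b = 1 ∨ (b * b = 1 ∧ ∀ x, b x ≠ x)) →
    ((a * b) * (a * b) * (a * b) = 1 ∨ ((a * b) * (a * b) = 1 ∧ ∀ x, (a * b) x ≠ x)) := by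
  decide

set_option maxRecDepth 100000 in
theorem a4_inv : ∀ a : Equiv.Perm (Fin 4), (a * a * a = 1 ∨ (a * a = 1 ∧ ∀ x, a x ≠ x)) →
    (a⁻¹ * a⁻¹ * a⁻¹ = 1 ∨ (a⁻¹ * a⁻¹ = 1 ∧ ∀ x, a⁻¹ x ≠ x)) := by
  decide

/-- the alternating subgroup of `S₄`, in a form convenient for evaluation. -/
def altFour : Subgroup (Equiv.Perm (Fin 4)) where
  carrier := {a | a * a * a = 1 ∨ (a * a = 1 ∧ ∀ x, a x ≠ x)}
  mul_mem' := fun {a b} ha hb => a4_mul a b ha hb
  one_mem' := by simp
  inv_mem' := fun {a} ha => a4_inv a ha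

set_option maxRecDepth 100000 in
theorem mem_a4_of_sign : ∀ c : Equiv.Perm (Fin 4), Equiv.Perm.sign c = 1 →
    (c * c * c = 1 ∨ (c * c = 1 ∧ ∀ x, c x ≠ x)) := by
  decide

theorem comm_mem_a4 (a b : Equiv.Perm (Fin 4)) : ⁅a, b⁆ ∈ altFour := by
  apply mem_a4_of_sign
  rw [commutatorElement_def, map_mul, map_mul, map_mul, map_inv, map_inv,
    mul_comm (Equiv.Perm.sign a) (Equiv.Perm.sign b), mul_inv_cancel_right, mul_inv_cancel]

set_option maxRecDepth 100000 in
theorem comm_mem_v4 : ∀ a b : Equiv.Perm (Fin 4), (a * a * a = 1 ∨ (a * a = 1 ∧ ∀ x, a x ≠ x)) →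
    (b * b * b = 1 ∨ (b * b = 1 ∧ ∀ x, b x ≠ x)) →
    ((a * b * a⁻¹ * b⁻¹) * (a * b * a⁻¹ * b⁻¹) = 1 ∧
      ((a * b * a⁻¹ * b⁻¹) = 1 ∨ ∀ x, (a * b * a⁻¹ * b⁻¹) x ≠ x)) := by
  decide

set_option maxRecDepth 100000 in
theorem comm_v4 : ∀ a b : Equiv.Perm (Fin 4), (a * a = 1 ∧ (a = 1 ∨ ∀ x, a x ≠ x)) →
    (b * b = 1 ∧ (b = 1 ∨ ∀ x, b x ≠ x)) → a * b * a⁻¹ * b⁻¹ = 1 := by
  decide

theorem isSolvable_perm_fin_four : Group.IsSolvable (Equiv.Perm (Fin 4)) := by
  rw [Group.isSolvable_def]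
  refine ⟨3, ?_⟩
  have h1 : derivedSeries (Equiv.Perm (Fin 4)) 1 ≤ altFour := by
    rw [derivedSeries_succ, Subgroup.commutator_le]
    intro a _ b _
    exact comm_mem_a4 a b
  have h2 : derivedSeries (Equiv.Perm (Fin 4)) 2 ≤ kleinFour := by
    rw [derivedSeries_succ]
    refine (Subgroup.commutator_mono h1 h1).trans ?_
    rw [Subgroup.commutator_le]
    intro a ha b hb
    exact comm_mem_v4 a b ha hb
  rw [derivedSeries_succ, eq_bot_iff]
  refine (Subgroup.commutator_mono h2 h2).trans ?_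
  rw [Subgroup.commutator_le]
  intro a ha b hb
  exact comm_v4 a b ha hb

theorem isSolvable_perm_of_card_le_four (β : Type*) [Fintype β] (h : Fintype.card β ≤ 4) :
    Group.IsSolvable (Equiv.Perm β) := by
  have key : Nonempty (β ↪ Fin 4) := Function.Embedding.nonempty_of_card_le (by simpa using h)
  have := isSolvable_perm_fin_four
  exact Group.isSolvable_of_isSolvable_injective
    (Equiv.Perm.viaEmbeddingHom_injective (Nonempty.some key))

theorem isSolvable_of_le {G : Type*} [Group G] {H K : Subgroup G} (hle : H ≤ K)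
    (hK : Group.IsSolvable K) : Group.IsSolvable H :=
  Group.isSolvable_of_isSolvable_injective (Subgroup.inclusion_injective hle)

theorem isSolvable_range {G G' : Type*} [Group G] [Group G'] (f : G →* G') (hG : Group.IsSolvable G) :
    Group.IsSolvable f.range :=
  Group.isSolvable_of_surjective f.rangeRestrict_surjective

/-- a group of permutations generated by permutations moving only points of a set with at
most four elements is solvable. -/
theorem isSolvable_closure_of_support_subset {α : Type*} [Fintype α] [DecidableEq α]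
    (T : Finset α) (hT : T.card ≤ 4) (s : Set (Equiv.Perm α)) (hs : ∀ σ ∈ s, σ.support ⊆ T) :
    Group.IsSolvable (Subgroup.closure s) := by
  have h1 : Group.IsSolvable (Equiv.Perm {x // x ∈ T}) :=
    isSolvable_perm_of_card_le_four _ (by simpa using hT)
  have h2 := isSolvable_range (Equiv.Perm.ofSubtype : Equiv.Perm {x // x ∈ T} →* Equiv.Perm α) h1
  refine isSolvable_of_le ?_ h2
  rw [Subgroup.closure_le]
  intro σ hσ
  have hsup := hs σ hσ
  have hmem : ∀ x, σ x ≠ x → x ∈ T := fun x hx => hsup (Equiv.Perm.mem_support.2 hx)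
  have hiff : ∀ x, σ x ∈ T ↔ x ∈ T := by
    intro x
    by_cases hx : σ x = x
    · rw [hx]
    · constructor
      · intro _; exact hmem x hx
      · intro _
        apply hmem
        intro h
        exact hx (σ.injective h)
  exact ⟨Equiv.Perm.subtypePerm σ hiff, Equiv.Perm.ofSubtype_subtypePerm hiff hmem⟩

/-- adjoining a commuting generator preserves solvability. -/
theorem isSolvable_closure_insert_of_commute {G : Type*} [Group G] (s : Set G) (c : G)
    (hc : ∀ x ∈ s, Commute x c) (hs : Group.IsSolvable (Subgroup.closure s)) :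
    Group.IsSolvable (Subgroup.closure (insert c s)) := by
  have hcomm : ∀ (k : Subgroup.closure s) (z : Subgroup.zpowers c),
      Commute ((Subgroup.closure s).subtype k) ((Subgroup.zpowers c).subtype z) := by
    intro k z
    obtain ⟨i, hi⟩ := Subgroup.mem_zpowers_iff.1 z.2
    have hk : (k : G) ∈ Subgroup.centralizer ({c} : Set G) := by
      have : Subgroup.closure s ≤ Subgroup.centralizer ({c} : Set G) := by
        rw [Subgroup.closure_le]
        intro x hx
        exact Subgroup.mem_centralizer_singleton_iff.2 (hc x hx)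
      exact this k.2
    have h1 : Commute (k : G) c := Subgroup.mem_centralizer_singleton_iff.1 hk
    change Commute (k : G) (z : G)
    rw [← hi]
    exact h1.zpow_right i
  have hz : Group.IsSolvable (Subgroup.zpowers c) := by
    apply Group.isSolvable_of_comm
    intro a b
    obtain ⟨i, hi⟩ := Subgroup.mem_zpowers_iff.1 a.2
    obtain ⟨j, hj⟩ := Subgroup.mem_zpowers_iff.1 b.2
    apply Subtype.ext
    change (a : G) * b = b * a
    rw [← hi, ← hj, ← zpow_add, ← zpow_add, add_comm]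
  have hprod : Group.IsSolvable (Subgroup.closure s × Subgroup.zpowers c) := inferInstance
  have h2 := isSolvable_range (MonoidHom.noncommCoprod _ _ hcomm) hprod
  refine isSolvable_of_le ?_ h2
  rw [Subgroup.closure_le]
  intro x hx
  rcases hx with rfl | hx
  · exact ⟨(1, ⟨x, Subgroup.mem_zpowers x⟩), by simp⟩
  · exact ⟨(⟨x, Subgroup.subset_closure hx⟩, 1), by simp⟩

end Cfsg.Agent.Lib.Helper76
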